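import Cfsg.Agent.Lib.Frobenius.Compl
import Cfsg.Agent.S2904

/-!
# A group acting transitively on the nontrivial characters of an abelian `p`-group
-/

set_option autoImplicit false

namespace Cfsg.Lib.Block
open scoped IsMulCommutative

theorem isCyclic_mulAut_of_card_dvd {K : Type*} [Group K] [Finite K] {p : ℕ} (hp : p.Prime)
    (h : Nat.card K ∣ p) : IsCyclic (MulAut K) := by
  have := Fact.mk hp
  have : IsCyclic K := isCyclic_of_card_dvd_prime h
  have : IsCyclic (ZMod (Nat.card K))ˣ := by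
    rcases (Nat.dvd_prime hp).1 h with h | h <;> rw [h]
    · exact isCyclic_of_subsingleton
    · exact ZMod.isCyclic_units_prime hp
  exact isCyclic_of_injective (IsCyclic.mulAutMulEquiv K).toMonoidHom (MulEquiv.injective _)

theorem card_le_three_of_trans {E D : Type*} [Group E] [Finite E] [Group D] [Finite D]
    [IsMulCommutative D] {p : ℕ} [hp : Fact p.Prime] (hD : IsPGroup p D) (φ : E →* MulAut D)
    (hφ : Function.Injective φ) (h1 : ¬ p ∣ Nat.card E) (h2 : Even (Nat.card E))
    (htr : ∀ ζ ζ' : D →* ℂˣ, ζ ≠ 1 → ζ' ≠ 1 → ∃ e, ∀ d, ζ' d = ζ (φ e d))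
    (hb : ∀ (l : ℕ) [Fact l.Prime], l ≠ 2 → ∀ R : Sylow l E, IsCyclic R → ¬ l ∣ Nat.card E)
    (hc : Frobenius.Fpf E → Nat.card E = 2)
    (hd : ∀ ζ : D →* ℂˣ, ζ ≠ 1 → ∀ S : Subgroup E, (∀ e, e ∈ S ↔ ∀ d, ζ (φ e d) = ζ d) →
      IsCyclic S → S = ⊥) : Nat.card D ≤ 3 := by
  by_contra! h3
  have hV : Nat.card (D →* ℂˣ) = Nat.card D :=
    CommGroup.card_monoidHom_of_hasEnoughRootsOfUnity D ℂ
  have : Finite (D →* ℂˣ) := Nat.finite_of_card_ne_zero (by omega)
  have : Nontrivial D := Finite.one_lt_card_iff_nontrivial.1 (by omega)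
  have : Nontrivial (D →* ℂˣ) := Finite.one_lt_card_iff_nontrivial.1 (by omega)
  letI : MulAction E (D →* ℂˣ) :=
    { smul := fun e ζ => ζ.comp (φ e⁻¹).toMonoidHom
      one_smul := fun ζ => MonoidHom.ext fun d => by
        change ζ (φ 1⁻¹ d) = _
        simp
      mul_smul := fun a b ζ => MonoidHom.ext fun d => by
        change ζ (φ (a * b)⁻¹ d) = ζ (φ b⁻¹ (φ a⁻¹ d))
        simp }
  have hs : ∀ (e : E) (ζ : D →* ℂˣ) d, (e • ζ) d = ζ (φ e⁻¹ d) := fun _ _ _ => rfl
  obtain ⟨ζ, hζ⟩ := exists_ne (1 : D →* ℂˣ)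
  have h4 : Nat.card D - 1 ∣ Nat.card E := by
    have : MulAction.orbit E ζ = Set.univ \ {1} := by
      ext ζ'
      refine ⟨?_, fun h => ?_⟩
      · rintro ⟨e, rfl⟩
        refine ⟨trivial, fun h => hζ (MonoidHom.ext fun d => ?_)⟩
        simpa [hs] using DFunLike.congr_fun (show e • ζ = 1 from h) (φ e d)
      · obtain ⟨e, he⟩ := htr ζ ζ' hζ h.2
        exact ⟨e⁻¹, MonoidHom.ext fun d => by simp [hs, he]⟩
    rw [← hV, ← Set.ncard_univ, ← Set.ncard_sdiff_singleton_of_mem (Set.mem_univ 1), ← this,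
      ← MulAction.index_stabilizer]
    exact Subgroup.index_dvd_card _
  obtain ⟨n, hn⟩ := hD.exists_card_eq
  have hp2 : p ≠ 2 := fun e => h1 (e ▸ even_iff_two_dvd.1 h2)
  by_cases h5 : 2 < n
  · obtain ⟨l, hl, h6, h7⟩ := Cfsg.Agent.S2904.result p n hp.out.one_lt (by omega)
      (fun h => hp2 h.1) fun h => by omega
    have := Fact.mk hl
    have hl2 : l ≠ 2 := fun e => h7 1 one_pos (by omega) (by
      rw [e, pow_one]; exact even_iff_two_dvd.1 (hp.out.even_sub_one hp2))
    obtain ⟨R⟩ : Nonempty (Sylow l E) := inferInstance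
    have h8 : Frobenius.Fpf R := Frobenius.fpf_of_aut (φ.comp (R : Subgroup E).subtype)
      fun g d hg => by
        by_contra! h
        let P := (Subgroup.zpowers g).map (φ.comp (R : Subgroup E).subtype)
        have hP : IsPGroup l P := (R.isPGroup'.to_subgroup _).map _
        have a1 := hP.card_modEq_card_fixedPoints D
        obtain ⟨k, hk⟩ := (hD.to_subgroup (FixedPoints.subgroup P D)).exists_card_eq
        have a2 : k ≠ 0 := fun e => h.2 (by
          rw [e, pow_zero, Subgroup.card_eq_one, eq_bot_iff] at hk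
          refine hk (show d ∈ FixedPoints.subgroup P D from ?_)
          rintro ⟨_, x, hx, rfl⟩
          exact (Subgroup.zpowers_le (H := (MulAction.stabilizer (MulAut D) d).comap
            (φ.comp (R : Subgroup E).subtype))).2 hg hx)
        have a3 : k < n := by
          refine (Nat.pow_lt_pow_iff_right hp.out.one_lt).1 ?_
          rw [← hk, ← hn]
          refine (Subgroup.card_le_card_group _).lt_of_ne fun e => h.1 (Subtype.ext (hφ ?_))
          ext x
          have : x ∈ FixedPoints.subgroup P D := Subgroup.eq_top_of_card_eq _ e ▸ trivial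
          simpa using this ⟨_, g, Subgroup.mem_zpowers g, rfl⟩
        change _ ≡ Nat.card (FixedPoints.subgroup P D) [MOD l] at a1
        rw [hk, hn] at a1
        have a4 := ((Nat.modEq_iff_dvd' (Nat.one_le_pow _ _ hp.out.pos)).2 h6).trans a1
        exact h7 k (Nat.pos_of_ne_zero a2) a3
          ((Nat.modEq_iff_dvd' (Nat.one_le_pow _ _ hp.out.pos)).1 a4)
    have h9 := h8.isCyclic_of_odd hl2 (R.isPGroup'.to_subgroup ⊤)
    exact hb l hl2 R (isCyclic_of_surjective _ Subgroup.topEquiv.surjective)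
      (h6.trans (hn ▸ h4))
  have h6 : ∀ ζ : D →* ℂˣ, ζ ≠ 1 → ∀ e, (∀ d, ζ (φ e d) = ζ d) → e = 1 := fun ζ hζ e he => by
    let S := MulAction.stabilizer E ζ
    have hS : ∀ e, e ∈ S ↔ ∀ d, ζ (φ e d) = ζ d := fun e => by
      rw [← inv_mem_iff, MulAction.mem_stabilizer_iff, MonoidHom.ext_iff]
      simp [hs]
    have hK : Nat.card ζ.ker ∣ p := by
      obtain ⟨k, hk⟩ := (hD.to_subgroup ζ.ker).exists_card_eq
      have : k < n := by
        refine (Nat.pow_lt_pow_iff_right hp.out.one_lt).1 ?_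
        rw [← hk, ← hn]
        exact (Subgroup.card_le_card_group _).lt_of_ne fun e => hζ (MonoidHom.ext fun x =>
          show x ∈ ζ.ker from Subgroup.eq_top_of_card_eq _ e ▸ trivial)
      rw [hk]
      exact (pow_dvd_pow p (by omega)).trans (pow_one p).dvd
    have hm : ∀ (s : S) (k : ζ.ker), φ s k ∈ ζ.ker := fun s k => ((hS s).1 s.2 k).trans k.2
    let f : S →* MulAut ζ.ker :=
      { toFun := fun s =>
          { toFun := fun k => ⟨φ s k, hm s k⟩
            invFun := fun k => ⟨φ s⁻¹.1 k, hm s⁻¹ k⟩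
            left_inv := fun k => Subtype.ext (by simp)
            right_inv := fun k => Subtype.ext (by simp)
            map_mul' := fun a b => Subtype.ext (by simp) }
        map_one' := by ext; simp
        map_mul' := fun a b => by ext; simp }
    have := isCyclic_mulAut_of_card_dvd hp.out hK
    have hf : Function.Injective f := (injective_iff_map_eq_one f).2 fun s h => by
      have a1 : (s : E) ^ p = 1 := hφ (MulEquiv.ext fun d => by
        have a2 : φ s d * d⁻¹ ∈ ζ.ker := by simp [MonoidHom.mem_ker, (hS s).1 s.2]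
        have a3 : φ s (φ s d * d⁻¹) = φ s d * d⁻¹ :=
          congrArg Subtype.val (DFunLike.congr_fun h ⟨_, a2⟩)
        have a4 : ∀ k : ℕ, φ ((s : E) ^ k) d = (φ s d * d⁻¹) ^ k * d := fun k => by
          induction k with
          | zero => simp
          | succ k ih => rw [pow_succ', map_mul, MulAut.mul_apply, ih, map_mul, map_pow, a3,
              pow_succ, mul_assoc, inv_mul_cancel_right]
        have a5 : (φ s d * d⁻¹) ^ p = 1 := congrArg Subtype.val
          (orderOf_dvd_iff_pow_eq_one.1 ((orderOf_dvd_natCard (⟨_, a2⟩ : ζ.ker)).trans hK))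
        rw [a4, a5, one_mul, map_one, MulAut.one_apply])
      refine Subtype.ext (orderOf_eq_one_iff.1 ?_)
      exact ((Nat.dvd_prime hp.out).1 (orderOf_dvd_of_pow_eq_one a1)).resolve_right fun e =>
        h1 (e ▸ orderOf_dvd_natCard _)
    exact (hd ζ hζ S hS (isCyclic_of_injective f hf)).le ((hS e).2 he)
  have h7 := hc (Frobenius.fpf_of_aut φ fun e d hd => by
    by_contra! h
    let f : D →* D := (φ e).toMonoidHom / MonoidHom.id D
    have a1 : ¬ Function.Surjective f := fun a => h.2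
      ((injective_iff_map_eq_one f).1 (Finite.injective_iff_surjective.2 a) d (by simp [f, hd]))
    obtain ⟨x, hx⟩ := not_forall.1 a1
    obtain ⟨ζ, a2⟩ := not_forall.1 fun a =>
      hx ((CommGroup.forall_monoidHom_apply_eq_one_iff ℂ f.range x).1 a)
    obtain ⟨a3, a4⟩ := Classical.not_imp.1 a2
    refine h.1 (h6 ζ (fun a => a4 (by rw [a]; rfl)) e fun y => ?_)
    simpa [f, div_eq_one] using a3 _ ⟨y, rfl⟩)
  have := Nat.le_of_dvd two_pos (h7 ▸ h4)
  omega

end Cfsg.Lib.Block
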