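import Cfsg.Agent.Lib.Block.Ext
import Cfsg.Agent.Lib.Modular.CentralDefect

/-!
# Blocks with a normal defect group
-/

set_option autoImplicit false
set_option linter.unusedSectionVars false
set_option linter.dupNamespace false

namespace Cfsg.Lib.Block

open _root_.Cfsg.Lib.Block MonoidAlgebra Cfsg.Lib.Char Cfsg.Lib.Modular Cfsg.Lib.Transfer Subgroup
open Cfsg.Lib.Clifford Cfsg.Lib.Induce

variable {G : Type*} [Group G] [Finite G] {K H N X P Q D T : Subgroup G} {x : G}
variable {p : ℕ} [hp : Fact p.Prime] {M : Ideal AlgInt} [Modular p M]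
variable {B : Set (IrrCharacter G)} {b : Set (IrrCharacter N)}

omit [Modular p M] in
theorem Over.factorization_eq [N.Normal] {χ : IrrCharacter G} {θ : IrrCharacter N}
    (h : Over N.subtype (χ : G → ℂ) {θ}) (hi : ¬ p ∣ N.relIndex (inertia N (θ : N → ℂ))) :
    (charDegree (χ : G → ℂ)).factorization p =
      N.index.factorization p + (charDegree (θ : N → ℂ)).factorization p := by
  have := Fintype.ofFinite N
  have h1 := (over_subtype_iff χ θ).1 h
  obtain ⟨e, he, h2⟩ := exists_classInner_res_dvd_relIndex N χ.2 θ.2 h1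
  have h3 := clifford_degree N χ.2 θ.2 h1
  rw [he, apply_one_eq_charDegree χ.2.isCharacter, apply_one_eq_charDegree θ.2.isCharacter] at h3
  have h0 : e ≠ 0 := by rintro rfl; exact h1 (by rw [he, Nat.cast_zero])
  have h4 : charDegree (χ : G → ℂ) =
    e * (inertia N (θ : N → ℂ)).index * charDegree (θ : N → ℂ) := by exact_mod_cast h3
  rw [h4, ← relIndex_mul_index (le_inertia N θ.2.isClassFunction),
    Nat.factorization_mul (mul_ne_zero h0 index_ne_zero_of_finite) (charDegree_ne_zero θ.2),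
    Nat.factorization_mul h0 index_ne_zero_of_finite,
    Nat.factorization_mul (a := N.relIndex _) index_ne_zero_of_finite index_ne_zero_of_finite]
  simp only [Finsupp.add_apply]
  rw [Nat.factorization_eq_zero_of_not_dvd fun h => hi (h.trans h2)]
  exact congrArg (· + _ + _) (Nat.factorization_eq_zero_of_not_dvd hi).symm

theorem Over.blockHeight_eq [N.Normal] {χ : IrrCharacter G} {θ : IrrCharacter N}
    (h : Over N.subtype (χ : G → ℂ) {θ}) (hB : IsPBlock M B) (hb : IsPBlock M b) (hχ : χ ∈ B)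
    (hθ : θ ∈ b) (hi : ¬ p ∣ N.relIndex (stab (ebl N M b))) (hD : IsDefectGroup p M B D)
    (hD' : IsDefIn p N (ebl N M b) D) :
    blockHeight p B (χ : G → ℂ) = blockHeight p b (θ : N → ℂ) := by
  have h1 := h.factorization_eq (p := p) fun h' => hi (h'.trans (Dvd.intro _
    (relIndex_mul_relIndex _ _ _ (le_inertia N θ.2.isClassFunction) (hb.inertia_le_stab hθ))))
  have h2 := hb.factorization_add_of_isDefIn hD' hθ
  have h3 := factorization_degree_add_defect (p := p) hχ
  have h4 := hB.card_defectGroup hD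
  rw [factorization_card_eq_add N] at h3
  rw [h4, hp.out.factorization_pow, Finsupp.single_eq_same] at h2
  omega

instance sup_centralizer_normal [P.Normal] : (P ⊔ centralizer (P : Set G)).Normal :=
  sup_normal _ _

theorem Cfsg.IsPBlock.exists_root [P.Normal] (hB : IsPBlock M B) (hP : IsDefectGroup p M B P) :
    ∃ b : Set (IrrCharacter ↥(P ⊔ centralizer (P : Set G))), IsPBlock M b ∧
      IsMaxPair p M ⊤ (eblk M B) P (ebl _ M b) ∧
      IsDefIn p (P ⊔ centralizer (P : Set G)) (ebl _ M b) P ∧ Covers (P ⊔ centralizer (P : Set G)).subtype B b ∧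
      ¬ p ∣ (P ⊔ centralizer (P : Set G)).relIndex (stab (ebl _ M b)) := by
  obtain ⟨e, hm⟩ := hB.isBlkIdem_top.exists_isMaxPair (hB.isDefectGroup_iff_isDefIn_top.1 hP)
  have h1 : P ⊔ centralizer (P : Set G) ≤ stab e :=
    sup_le hm.isPair.mem_fix (le_stab.2 (by simpa using hm.isPair.blk.mem_cen.1))
  have hN : normalizer (P : Set G) = ⊤ := normalizer_eq_top P
  obtain ⟨b, hb, rfl⟩ := hm.isPair.isBlkIdem (X := P ⊔ centralizer (P : Set G)) le_sup_left
    (hN ▸ le_top) (by simp) h1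
  refine ⟨b, hb, hm, hm.isDefIn_stab.mono le_sup_left (by simpa [hN] using h1),
    (hB.covers_iff_mul_ebl hb).2 ?_, by simpa [hN] using hm.not_dvd_relIndex⟩
  rw [← hB.br_eblk_of_normal hP.isPGroup]
  exact hm.pair.mul_ne_zero

omit [Finite G] in
theorem subgroupOf_sup_centralizer (P : Subgroup G) :
    P.subgroupOf (P ⊔ centralizer (P : Set G)) ⊔
      centralizer (P.subgroupOf (P ⊔ centralizer (P : Set G)) : Set _) = ⊤ := by
  refine map_injective (subtype_injective _) ?_
  rw [Subgroup.map_sup, centralizer_map_subtype, map_subgroupOf_eq_of_le le_sup_left,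
    top_map_subtype, inf_eq_right.2 le_sup_right]

theorem Cfsg.IsPBlock.height_zero_iff_comm (hB : IsPBlock M B) (hD : IsDefectGroup p M B D)
    (hG : D ⊔ centralizer (D : Set G) = ⊤) :
    (∀ a c : D, a * c = c * a) ↔ ∀ χ ∈ B, blockHeight p B (χ : G → ℂ) = 0 := by
  have := Fintype.ofFinite G
  have hc := regSet_subset_of_sup_centralizer hD.isPGroup hG
  obtain ⟨χ, hχ⟩ := exists_canonical hG hB hD
  obtain ⟨h1, h2⟩ : χ ∈ B ∩ kerSet D := hχ ▸ rfl
  have key : ∀ (θ : IrrCharacter G) (ζ : IrrCharacter D), (θ : G → ℂ) = secLift p ζ.1 χ →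
      charDegree (θ : G → ℂ) = charDegree (ζ : D → ℂ) * charDegree (χ : G → ℂ) := fun θ ζ h => by
    have h3 := secLift_mul hD.isPGroup hc ζ.1 χ 1 (not_dvd_orderOf_one hp.out)
    rw [← h, OneMemClass.coe_one, one_mul, apply_one_eq_charDegree θ.2.isCharacter,
      apply_one_eq_charDegree ζ.2.isCharacter, apply_one_eq_charDegree χ.2.isCharacter] at h3
    exact_mod_cast h3
  rw [comm_iff_forall_irr_apply_one]
  refine ⟨fun h θ hθ => (blockHeight_eq_zero_iff hB.nonempty).2 fun ψ hψ => ?_, fun h ζ => ?_⟩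
  · obtain ⟨ζ, h3⟩ := exists_eq_secLift hG hB hD h1 h2 hθ
    obtain ⟨ξ, h4⟩ := exists_eq_secLift hG hB hD h1 h2 hψ
    rw [key θ ζ h3, key ψ ξ h4, charDegree_eq ((h ζ).trans Nat.cast_one.symm),
      charDegree_eq ((h ξ).trans Nat.cast_one.symm)]
  · obtain ⟨θ, hθ, h3⟩ := exists_mem_eq_secLift hG hB hD h1 h2 ζ
    have h4 := (blockHeight_eq_zero_iff hB.nonempty).1 (h θ hθ) χ h1
    obtain ⟨k, hk⟩ := hD.isPGroup.exists_card_eq
    obtain ⟨j, -, hj⟩ := (Nat.dvd_prime_pow hp.out).1 (hk ▸ ζ.2.charDegree_dvd_card)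
    rw [key θ ζ h3, Nat.factorization_mul (charDegree_ne_zero ζ.2) (charDegree_ne_zero χ.2), hj,
      hp.out.factorization_pow, Finsupp.add_apply, Finsupp.single_eq_same] at h4
    rw [apply_one_eq_charDegree ζ.2.isCharacter, hj, show j = 0 by omega]; simp

theorem Cfsg.IsPBlock.height_zero_iff_comm_of_normal [P.Normal] (hB : IsPBlock M B)
    (hP : IsDefectGroup p M B P) :
    (∀ a ∈ P, ∀ c ∈ P, a * c = c * a) ↔ ∀ χ ∈ B, blockHeight p B (χ : G → ℂ) = 0 := by
  obtain ⟨b, hb, -, h1, h2, h3⟩ := hB.exists_root hP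
  have h4 := hb.height_zero_iff_comm ((hb.isDefectGroup_iff_isDefIn le_sup_left).2 h1)
    (subgroupOf_sup_centralizer P)
  refine ⟨fun h χ hχ => ?_, fun h a ha c hc => ?_⟩
  · obtain ⟨θ, hθ, h5⟩ := (over_iff_exists χ.2.isCharacter).1
      (h2.over (subtype_injective _) hB hb hχ)
    rw [h5.blockHeight_eq hB hb hχ hθ h3 hP h1]
    exact h4.1 (fun a c => Subtype.ext (Subtype.ext (h _ a.2 _ c.2))) θ hθ
  · refine congrArg (fun x => (x.1 : G)) (h4.2 (fun θ hθ => ?_) ⟨⟨a, mem_sup_left ha⟩, ha⟩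
      ⟨⟨c, mem_sup_left hc⟩, hc⟩)
    obtain ⟨χ, hχ, h5⟩ := h2.exists_over hB hb hθ
    rw [← h5.blockHeight_eq hB hb hχ hθ h3 hP h1, h χ hχ]

end Cfsg.Lib.Block
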