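import Cfsg.Agent.Lib.Block.TwoOver
import Cfsg.Agent.Lib.Block.K3Grp
import Cfsg.Agent.Lib.Block.Sign
import Cfsg.Agent.Lib.Block.NormalDef
import Cfsg.Agent.Lib.Block.Constr
import Cfsg.Agent.Lib.St.Avg
import Cfsg.Agent.Lib.PGroup.Frattini

/-!
# Blocks with normal defect group and at most three characters of height zero
-/

set_option autoImplicit false
set_option linter.unusedSectionVars false
set_option linter.dupNamespace false

namespace Cfsg.Lib.Block
open _root_.Cfsg.Lib.Block MonoidAlgebra Cfsg.Lib.Char Cfsg.Lib.Modular Cfsg.Lib.Clifford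
  Cfsg.Lib.Induce Subgroup
open scoped IsMulCommutative

universe u

variable {G : Type u} [Group G] [Finite G] {N : Subgroup G} [hN : N.Normal]

theorem index_eq_one_of_isCyclic {θ : IrrCharacter N}
    (hinv : ∀ (g : G) (n : N), θ.1 ⟨g * n * g⁻¹, hN.conj_mem (n : G) n.2 g⟩ = θ.1 n)
    (h : Nat.card {χ : IrrCharacter G // Over N.subtype χ.1 {θ}} ≤ 1) (hc : IsCyclic (G ⧸ N)) :
    N.index = 1 := by
  classical
  have := Fintype.ofFinite N
  obtain ⟨e, h1, h2, h3⟩ := exists_mult hinv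
  obtain ⟨η, hη, he⟩ := exists_extension_of_isCyclic N hc θ.2 hinv
  have h4 : Over N.subtype η {θ} := (over_subtype_iff ⟨η, hη⟩ θ).2 (by
    rw [show (fun n : N => η n) = θ.1 from funext he, θ.2.inner_self]; exact one_ne_zero)
  lift η to IrrCharacter G using hη
  have h5 := (h2 η ((h1 _).2 h4)).2
  rw [charDegree_congr (show η.1 1 = θ.1 1 from he 1)] at h5
  have h6 : ∀ χ, χ ≠ η → e χ = 0 := fun χ hχ => not_not.1 fun h6 => hχ (congrArg Subtype.val
    ((Finite.card_le_one_iff_subsingleton.1 h).elim ⟨χ, (h1 χ).1 h6⟩ ⟨η, h4⟩))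
  rw [← h3, Finset.sum_eq_single η (fun χ _ hχ => by rw [h6 χ hχ, zero_pow two_ne_zero])
    (fun h => absurd (Finset.mem_univ _) h),
    (Nat.mul_eq_right (charDegree_ne_zero θ.2)).1 h5.symm, one_pow]

theorem exists_over_inertia (ψ : IrrCharacter N) {I : Subgroup G} (hI : inertia N ψ.1 = I) :
    ∃ θ : IrrCharacter (N.subgroupOf I), (∀ (g : I) (n : N.subgroupOf I),
      θ.1 ⟨g * n * g⁻¹, (inferInstance : (N.subgroupOf I).Normal).conj_mem (n : I) n.2 g⟩ =
        θ.1 n) ∧ Nat.card {χ : IrrCharacter I // Over (N.subgroupOf I).subtype χ.1 {θ}} =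
        Set.ncard {χ : IrrCharacter G | Over N.subtype χ.1 {ψ}} := by
  subst hI
  have hNI := le_inertia N ψ.2.isClassFunction
  have := Fintype.ofFinite G
  have := Fintype.ofFinite N
  have := Fintype.ofFinite (N.subgroupOf (inertia N ψ.1))
  refine ⟨⟨_, ψ.2.comp_equiv (subgroupOfEquivOfLe hNI)⟩,
    fun g n => (mem_inertia_iff N).1 g.2 (subgroupOfEquivOfLe hNI n), ?_⟩
  have h1 := Nat.card_congr (bijOn_indFun_over N hNI ψ.2 le_rfl).equiv
  refine (Nat.card_congr ((Equiv.subtypeEquivRight fun χ => ?_).trans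
    (Equiv.subtypeSubtypeEquivSubtypeInter _ _))).trans (h1.trans (Nat.card_congr
      ((Equiv.subtypeSubtypeEquivSubtypeInter _ _).symm.trans
        (Equiv.subtypeEquivRight fun χ => (over_subtype_iff χ ψ).symm))))
  rw [over_subtype_iff, ← classInner_comp_equiv (subgroupOfEquivOfLe hNI)]
  rfl

theorem Over.mem_kerSet_iff {D : Subgroup G} [hD : D.Normal] (hDN : D ≤ N) {χ : IrrCharacter G}
    {ψ : IrrCharacter N} (h : Over N.subtype χ.1 {ψ}) :
    χ ∈ kerSet D ↔ ψ ∈ kerSet (D.subgroupOf N) := by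
  have := Fintype.ofFinite G
  have := Fintype.ofFinite N
  rw [over_subtype_iff] at h
  refine ⟨fun h1 n hn => (χ.2.isCharacter.restrict N).apply_eq_of_constituent ψ.2 h (h1 n hn),
    fun h1 d hd => ?_⟩
  have h2 := clifford_sum_group N χ.2 ψ.2 h
  have h3 := congrFun h2 ⟨d, hDN hd⟩
  have h4 := congrFun h2 1
  simp only [Pi.smul_apply, Finset.sum_apply, conjChar_apply, smul_eq_mul] at h3 h4
  rw [Finset.sum_congr rfl (g := fun _ => ψ.1 1) fun g _ => h1 _ (hD.conj_mem d hd g)] at h3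
  rw [Finset.sum_congr rfl (g := fun _ => ψ.1 1) fun g _ => congrArg _ (Subtype.ext (by simp)),
    ← h3] at h4
  exact (mul_left_cancel₀ (Nat.cast_ne_zero.2 Nat.card_pos.ne') h4).symm

variable {p : ℕ} [hp : Fact p.Prime] {M : Ideal AlgInt} [Modular p M] {B : Set (IrrCharacter G)}
  {D : Subgroup G} [D.Normal]

theorem Cfsg.IsPBlock.rank_one_of_kerSet (hB : IsPBlock M B) (hD : IsPGroup p D)
    {ψ : IrrCharacter G} (hψ : ψ ∈ B) (h : ∀ χ ∈ B, χ ∈ kerSet D → χ = ψ) :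
    blockRank p B = 1 := by
  classical
  have := Fintype.ofFinite G
  refine blockRank_eq_one_of_forall hψ fun θ hθ =>
    ⟨classInner (fun g => θ.1 (regPart p g)) ψ.1, fun x hx => ?_⟩
  have h1 := isClassFunction_comp_regPart p θ.2.isClassFunction
  have h2 : blockPart (kerSet D) (fun g => θ.1 (regPart p g)) = fun g => θ.1 (regPart p g) :=
    funext fun g => blockPart_kerSet_apply h1 fun z hz => θ.2.isClassFunction.eq_of_isConj
      (St.isConj_of_coset hp.out D hD (not_dvd_orderOf_regPart hp.out _)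
        (not_dvd_orderOf_regPart hp.out _) (by
          rw [← QuotientGroup.eq_one_iff, ← QuotientGroup.mk'_apply, map_mul, map_inv,
            map_regPart hp.out, map_regPart hp.out, map_mul, QuotientGroup.mk'_apply D z,
            (QuotientGroup.eq_one_iff z).2 hz, one_mul, mul_inv_cancel]))
  have h3 := blockPart_apply_congr hB.fblk_mem_SG (θ := θ.1) (φ := fun g => θ.1 (regPart p g))
    (u := x) fun g hg => by
      rw [pPart_of_not_dvd hp.out hx, isConj_one_right] at hg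
      rw [regPart_of_not_dvd hp.out ((pPart_eq_one_iff hp.out).1 hg)]
  rw [blockPart_irr, if_pos hθ, blockPart_eq_sum, Finset.sum_eq_single ψ (fun χ hχ h4 => ?_)
    (by simp [hψ])] at h3
  · exact h3
  · rw [← h2, classInner_blockPart, if_neg fun h5 => h4 (h χ (Finset.mem_filter.1 hχ).2 h5),
      zero_smul]

theorem Cfsg.IsPBlock.card_le_three_of_comm (hB : IsPBlock M B) (hD : IsDefectGroup p M B D)
    (hab : ∀ a ∈ D, ∀ c ∈ D, a * c = c * a) (hk : Nat.card B ≤ 3) : Nat.card D ≤ 3 := by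
  classical
  rcases subsingleton_or_nontrivial D with h | h
  · exact (Finite.card_le_one_iff_subsingleton.2 h).trans (by norm_num)
  have : IsMulCommutative D := ⟨⟨fun a c => Subtype.ext (hab _ a.2 _ c.2)⟩⟩
  have h0 := hB.exists_root hD
  have hG := subgroupOf_sup_centralizer D
  have hs := supp_mono (le_sup_right (a := D)) (hB.eblk_mem_supp_of_normal hD.isPGroup)
  have hNC : D ⊔ centralizer (D : Set G) ≤ centralizer (D : Set G) :=
    sup_le (fun a ha c hc => hab c hc a ha) le_rfl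
  have hCN : centralizer (D : Set G) ≤ D ⊔ centralizer (D : Set G) := le_sup_right
  have hDN : D ≤ D ⊔ centralizer (D : Set G) := le_sup_left
  have hNn : (D ⊔ centralizer (D : Set G)).Normal := inferInstance
  generalize D ⊔ centralizer (D : Set G) = N at h0 hG hs hNC hCN hDN hNn
  obtain ⟨b, hb, -, h1, h2, h3⟩ := h0
  have := Fintype.ofFinite N
  have hbD := (hb.isDefectGroup_iff_isDefIn hDN).2 h1
  have hc := regSet_subset_of_sup_centralizer hbD.isPGroup hG
  obtain ⟨θ, hθ⟩ := exists_canonical hG hb hbD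
  obtain ⟨hθb, hθK⟩ : θ ∈ b ∩ kerSet (D.subgroupOf N) := hθ ▸ rfl
  have hmem : ∀ (χ : IrrCharacter G), ∀ ψ ∈ b, Over N.subtype χ.1 {ψ} → χ ∈ B := fun χ ψ hψ h =>
    h2.eq_of_supp (h.covers (mem_blockOf_self χ) hψ) hB (isPBlock_blockOf χ) hb hs ▸
      mem_blockOf_self χ
  have hA : {χ : IrrCharacter G | Over N.subtype χ.1 {θ}} = B ∩ kerSet D := by
    refine Set.ext fun χ => ⟨fun h => ⟨hmem χ θ hθb h, (h.mem_kerSet_iff hDN).2 hθK⟩, fun h => ?_⟩
    obtain ⟨ψ, h4, h5⟩ := (over_iff_exists χ.2.isCharacter).1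
      (h2.over (subtype_injective _) hB hb h.1)
    have : ψ ∈ b ∩ kerSet (D.subgroupOf N) := ⟨h4, (h5.mem_kerSet_iff hDN).1 h.2⟩
    rw [hθ] at this
    exact this ▸ h5
  have hcj : ∀ (g : G), ∀ ψ ∈ b, ∀ ψ' ∈ b, conjChar N g ψ.1 = ψ'.1 → g ∈ stab (ebl N M b) :=
    fun g ψ hψ ψ' hψ' h => by
      have h0 := Cfsg.Lib.Transfer.conj_eq_self_of_normal g N
      rw [mem_stab, ← hb.cjSet_eq_iff h0 hb]
      refine (hb.conj h0).eq_of_mem hb (χ := ψ) ⟨ψ', hψ', fun c c' h' => ?_⟩ hψ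
      rw [← h]
      exact congrArg _ (Subtype.ext h')
  have hT : inertia N θ.1 = stab (ebl N M b) := by
    refine (hb.inertia_le_stab hθb).antisymm fun g hg => ?_
    have : (⟨_, isIrrCharacter_conjChar N θ.2 g⟩ : IrrCharacter N) ∈ b ∩ kerSet (D.subgroupOf N) :=
      ⟨hb.mem_stab_iff'.1 hg θ hθb _ fun _ => rfl, fun n hn =>
        (hθK ⟨g * n * g⁻¹, hNn.conj_mem _ n.2 g⟩ (Normal.conj_mem ‹D.Normal› (n : G) hn g)).trans
          (congrArg θ.1 (Subtype.ext (by simp)))⟩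
    rw [hθ] at this
    exact congrArg Subtype.val this
  have hpar : ∀ ζ : D →* ℂˣ, ∃ ψ ∈ b, ∀ d : D, ψ.1 ⟨d, hDN d.2⟩ = ζ d * θ.1 1 := fun ζ => by
    obtain ⟨ψ, h4, h5⟩ := exists_mem_eq_secLift hG hb hbD hθb hθK
      ⟨_, isIrrCharacter_hom (ζ.comp (subgroupOfEquivOfLe hDN).toMonoidHom)⟩
    refine ⟨ψ, h4, fun d => ?_⟩
    rw [h5, ← mul_one (⟨d, hDN d.2⟩ : N)]
    exact secLift_mul hbD.isPGroup hc _ θ.1 ⟨⟨d, hDN d.2⟩, d.2⟩ (not_dvd_orderOf_one hp.out)
  have hinj : ∀ ψ ∈ b, ∀ ψ' ∈ b, (∀ d : D, ψ.1 ⟨d, hDN d.2⟩ = ψ'.1 ⟨d, hDN d.2⟩) → ψ = ψ' :=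
    fun ψ hψ ψ' hψ' h => by
      obtain ⟨ζ, h4⟩ := exists_eq_secLift hG hb hbD hθb hθK hψ
      obtain ⟨ζ', h5⟩ := exists_eq_secLift hG hb hbD hθb hθK hψ'
      refine Subtype.ext (h4.trans ((congrArg (secLift p · θ.1) (funext fun y => ?_)).trans h5.symm))
      have a1 := secLift_mul hbD.isPGroup hc ζ.1 θ.1 y (not_dvd_orderOf_one hp.out)
      have a2 := secLift_mul hbD.isPGroup hc ζ'.1 θ.1 y (not_dvd_orderOf_one hp.out)
      rw [← h4, mul_one] at a1
      rw [← h5, mul_one] at a2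
      exact mul_right_cancel₀ θ.2.apply_one_ne_zero
        (a1.symm.trans ((h ⟨y, y.2⟩).trans a2))
  have hout : ∀ ζ : D →* ℂˣ, ζ ≠ 1 → ∀ ψ ∈ b, (∀ d : D, ψ.1 ⟨d, hDN d.2⟩ = ζ d * θ.1 1) →
      ∀ χ : IrrCharacter G, Over N.subtype χ.1 {ψ} → χ ∈ B \ kerSet D :=
    fun ζ hζ ψ hψ h χ h4 => ⟨hmem χ ψ hψ h4, fun h5 => hζ (MonoidHom.ext fun d => by
      have a1 := (h4.mem_kerSet_iff hDN).1 h5 ⟨d, hDN d.2⟩ d.2
      rw [h d, show ψ.1 1 = _ from h 1] at a1
      simpa using mul_right_cancel₀ θ.2.apply_one_ne_zero a1)⟩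
  have hsum := Set.ncard_inter_add_ncard_sdiff_eq_ncard B (kerSet D)
  rw [Nat.card_coe_set_eq] at hk
  by_cases h4 : (B ∩ kerSet D).ncard ≤ 1
  · obtain ⟨χ, hχ⟩ := exists_over N.subtype_injective θ
    have h5 : χ ∈ B ∩ kerSet D := hA ▸ hχ
    rw [hB.card_defectGroup hD, ← Sym.card_eq_of_rank_one hB (hB.rank_one_of_kerSet hD.isPGroup
      h5.1 fun ψ a1 a2 => (Set.ncard_le_one (Set.toFinite _)).1 h4 _ ⟨a1, a2⟩ _ h5)
      (hk.trans (by norm_num))]
    exact hk
  have h5 : (B \ kerSet D).Subsingleton := fun a ha c hc =>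
    (Set.ncard_le_one (Set.toFinite _)).1 (by omega) _ ha _ hc
  have h6 : (B ∩ kerSet D).ncard = 2 := by
    obtain ⟨d, hd⟩ := exists_ne (1 : D)
    obtain ⟨ζ, hζ⟩ := CommGroup.exists_apply_ne_one_of_hasEnoughRootsOfUnity D ℂ hd
    obtain ⟨ψ, a1, a2⟩ := hpar ζ
    obtain ⟨χ, hχ⟩ := exists_over N.subtype_injective ψ
    have := (Set.ncard_pos (Set.toFinite _)).2
      ⟨χ, hout ζ (fun e => hζ (by rw [e]; rfl)) ψ a1 a2 χ hχ⟩
    omega
  obtain ⟨θ', hinv, h7⟩ := exists_over_inertia θ hT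
  rw [hA, h6] at h7
  generalize hT' : stab (ebl N M b) = T at *
  let φ : T ⧸ N.subgroupOf T →* MulAut D := QuotientGroup.lift _
    (MulAut.conjNormal.comp T.subtype) fun x hx => MulEquiv.ext fun d => Subtype.ext
      (mul_inv_eq_iff_eq_mul.2 (hNC hx d d.2).symm)
  have hφ : ∀ (t : T) (d : D), (φ t d : G) = t * d * t⁻¹ := fun _ _ => rfl
  refine card_le_three_of_trans hD.isPGroup φ ((injective_iff_map_eq_one φ).2 fun x hx => ?_)
    h3 (even_index_of_two hinv h7) (fun ζ ζ' hζ hζ' => ?_)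
    (fun l _ hl R hR => not_dvd_index_of_two hinv h7.le hl R hR) (index_eq_two_of_fpf hinv h7)
    fun ζ hζ S hS hcyc => ?_
  · obtain ⟨t, rfl⟩ := QuotientGroup.mk_surjective x
    refine (QuotientGroup.eq_one_iff t).2 (hCN fun d hd => ?_)
    have := hφ t ⟨d, hd⟩
    rw [hx] at this
    exact eq_mul_inv_iff_mul_eq.1 this
  · obtain ⟨ψ, a1, a2⟩ := hpar ζ
    obtain ⟨ψ', a3, a4⟩ := hpar ζ'
    obtain ⟨χ, hχ⟩ := exists_over N.subtype_injective ψ
    obtain ⟨χ', hχ'⟩ := exists_over N.subtype_injective ψ'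
    obtain rfl := h5 (hout ζ hζ ψ a1 a2 χ hχ) (hout ζ' hζ' ψ' a3 a4 χ' hχ')
    obtain ⟨g, hg⟩ := exists_conjChar_eq_of_constituents N χ.2 ψ.2 ψ'.2
      ((over_subtype_iff _ _).1 hχ) ((over_subtype_iff _ _).1 hχ')
    refine ⟨(⟨g, hcj g ψ a1 ψ' a3 hg⟩ : T), fun d => Units.ext
      (mul_right_cancel₀ θ.2.apply_one_ne_zero ?_)⟩
    rw [← a2, ← a4, ← hg]
    rfl
  · obtain ⟨ψ, a1, a2⟩ := hpar ζ
    obtain ⟨ψ', b1, b2⟩ := exists_over_inertia ψ rfl
    have hIT : inertia N ψ.1 ≤ T := fun g hg => hcj g ψ a1 ψ a1 hg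
    let f : inertia N ψ.1 →* S := ((QuotientGroup.mk' _).comp (inclusion hIT)).codRestrict S
      fun g => (hS _).2 fun d => Units.ext (mul_right_cancel₀ θ.2.apply_one_ne_zero (by
        rw [← a2, ← a2]
        exact (mem_inertia_iff N).1 g.2 ⟨d, hDN d.2⟩))
    have e : f.ker = N.subgroupOf (inertia N ψ.1) := by
      ext x
      exact Subtype.ext_iff.trans (QuotientGroup.eq_one_iff (inclusion hIT x))
    have b3 := index_eq_one_of_isCyclic b1 (b2.trans_le ((Set.ncard_le_one (Set.toFinite _)).2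
      fun χ hχ χ' hχ' => h5 (hout ζ hζ ψ a1 a2 χ hχ) (hout ζ hζ ψ a1 a2 χ' hχ')))
      (isCyclic_of_injective ((QuotientGroup.kerLift f).comp
        (QuotientGroup.quotientMulEquivOfEq e.symm).toMonoidHom)
        ((QuotientGroup.kerLift_injective f).comp (MulEquiv.injective _)))
    refine eq_bot_iff.2 fun x hx => ?_
    obtain ⟨t, rfl⟩ := QuotientGroup.mk_surjective x
    refine (QuotientGroup.eq_one_iff t).2 (relIndex_eq_one.1 b3 (congrArg Subtype.val
      (hinj ⟨_, isIrrCharacter_conjChar N ψ.2 t⟩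
        (hb.mem_stab_iff'.1 (hT' ▸ t.2) ψ a1 _ fun _ => rfl) ψ a1 fun d => ?_)))
    rw [a2, ← (hS _).1 hx d, ← a2]
    rfl

theorem Cfsg.IsPBlock.card_le_three_of_normal (hB : IsPBlock M B) (hD : IsDefectGroup p M B D)
    (hk : Nat.card {χ : IrrCharacter G // χ ∈ B ∧ blockHeight p B (χ : G → ℂ) = 0} ≤ 3) :
    Nat.card D ≤ 3 := by
  let φ := QuotientGroup.mk' ⁅D, D⁆
  have hφ : Function.Surjective φ := QuotientGroup.mk'_surjective _
  have hker : φ.ker = ⁅D, D⁆ := QuotientGroup.ker_mk' _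
  have hkD : φ.ker ≤ D := hker.le.trans (commutator_le_left D D)
  have hk' : IsPGroup p φ.ker := hD.isPGroup.to_le hkD
  have hA := hB.preimage_infl_of_normal hφ hk' hD.isPGroup fun x hx h => centralizer_le hkD
    (mem_centralizer_of_map_mem hD.isPGroup hker.le hx (le_normalizer_top trivial) h)
  have hE := hA.isDefectGroup_iff_isDefIn_top.2 (hB.isDefIn_map hφ hk' hD)
  have hn : (D.map φ).Normal := Normal.map inferInstance φ hφ
  have hab : ∀ a ∈ D.map φ, ∀ c ∈ D.map φ, a * c = c * a := by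
    rintro _ ⟨a, ha, rfl⟩ _ ⟨c, hc, rfl⟩
    rw [← commutatorElement_eq_one_iff_mul_comm, ← map_commutatorElement, ← MonoidHom.mem_ker, hker]
    exact commutator_mem_commutator ha hc
  have h1 := hA.card_le_three_of_comm hE hab ((Nat.card_le_card_of_injective (fun χ =>
    (⟨infl φ hφ χ.1, χ.2, (hB.height_zero_iff_index hD χ.2).2 (by
      rw [charDegree_infl, (hA.height_zero_iff_index hE χ.2).1
        ((hA.height_zero_iff_comm_of_normal hE).1 hab _ χ.2), index_map_eq _ hφ hkD])⟩ :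
      {χ : IrrCharacter G // χ ∈ B ∧ blockHeight p B (χ : G → ℂ) = 0}))
    fun a b e => Subtype.ext (infl_injective hφ (by simpa using e))).trans hk)
  rw [← relIndex_ker, hker, ← map_subtype_commutator, relIndex, subgroupOf,
    comap_map_eq_self_of_injective D.subtype_injective] at h1
  have : IsCyclic (D ⧸ _root_.commutator D) := by
    have h2 : 0 < (_root_.commutator D).index := Nat.card_pos
    by_cases h3 : (_root_.commutator D).index = 2
    · exact isCyclic_of_prime_card (p := 2) h3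
    · refine isCyclic_of_card_dvd_prime (p := 3) (show (_root_.commutator D).index ∣ 3 from ?_)
      interval_cases (_root_.commutator D).index <;> simp at h3 ⊢
  have := PGroup.isCyclic_of_quotient_commutator hD.isPGroup
  rwa [commutator_eq_bot, index_bot] at h1

end Cfsg.Lib.Block
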