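import Cfsg.Agent.Lib.Block.PrinExt
import Cfsg.Agent.Lib.Block.PairDict
import Cfsg.Agent.Lib.Perm.Module

/-!
# Blocks of minimal dimension are nilpotent (Linckelmann)

If the `S × S`-fixed points of `k G e` are one-dimensional (`S` a Sylow subgroup), all fusion among
the subgroups `Q ≤ S` with `Br_Q(e) ≠ 0` takes place in `S`.
-/

set_option autoImplicit false
set_option linter.unusedSectionVars false
set_option linter.dupNamespace false

namespace Cfsg.Lib.Block

open _root_.Cfsg.Lib.Block MonoidAlgebra Cfsg.Lib.Char Cfsg.Lib.Modular Cfsg.Lib.Transfer Subgroup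

variable {G : Type*} [Group G] [Finite G] {S Q D : Subgroup G} {g : G}

section Idem
variable {χ : G → ℂ} {ε : ℂ[G]}

theorem exists_ev_idem_eq (hχ : IsCharacter G χ) (idem : ε * ε = ε) : ∃ n : ℕ, ev χ ε = n := by
  obtain ⟨n, ρ, rfl⟩ := hχ
  have h : IsIdempotentElem (ρ.asAlgebraHom ε) := by rw [IsIdempotentElem, ← map_mul, idem]
  exact ⟨_, (ev_character ρ ε).trans (LinearMap.IsIdempotentElem.isProj_range _ h).trace⟩

theorem ev_idem_mul_eq_zero (hχ : IsCharacter G χ) (idem : ε * ε = ε) (h : ev χ ε = 0)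
    (a : ℂ[G]) : ev χ (ε * a) = 0 := by
  obtain ⟨n, ρ, rfl⟩ := hχ
  have h1 : IsIdempotentElem (ρ.asAlgebraHom ε) := by rw [IsIdempotentElem, ← map_mul, idem]
  rw [ev_character] at h ⊢
  rw [map_mul, LinearMap.IsIdempotentElem.eq_zero_of_trace_eq_zero h1 h, zero_mul, map_zero]

/-- An idempotent of trace one cuts out a line. -/
theorem ev_idem_mul_mul (hχ : IsCharacter G χ) (idem : ε * ε = ε) (h : ev χ ε = 1)
    (a b : ℂ[G]) : ev χ (ε * a * ε * b) = ev χ (ε * a) * ev χ (ε * b) := by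
  have hc := hχ.isClassFunction
  obtain ⟨n, ρ, rfl⟩ := hχ
  have h1 : IsIdempotentElem (ρ.asAlgebraHom ε) := by rw [IsIdempotentElem, ← map_mul, idem]
  have h2 := (LinearMap.IsIdempotentElem.isProj_range _ h1)
  have h3 : Module.finrank ℂ (LinearMap.range (ρ.asAlgebraHom ε)) = 1 := by
    rw [ev_character, h2.trace] at h; exact_mod_cast h
  obtain ⟨v, -, hv⟩ := finrank_eq_one_iff'.1 h3
  obtain ⟨c, hc'⟩ := hv ⟨ρ.asAlgebraHom (ε * a) v, ρ.asAlgebraHom a v, by rw [map_mul]; rfl⟩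
  have h4 : ρ.asAlgebraHom (ε * a * ε) = c • ρ.asAlgebraHom ε := LinearMap.ext fun w => by
    obtain ⟨d, hd⟩ := hv ⟨ρ.asAlgebraHom ε w, w, rfl⟩
    have h5 : d • (v : Fin n → ℂ) = ρ.asAlgebraHom ε w := congrArg Subtype.val hd
    have h6 : c • (v : Fin n → ℂ) = ρ.asAlgebraHom (ε * a) v := congrArg Subtype.val hc'
    rw [map_mul, Module.End.mul_apply, LinearMap.smul_apply, ← h5, map_smul, ← h6, smul_comm]
  have h5 : ∀ b, ev ρ.character (ε * a * ε * b) = c * ev ρ.character (ε * b) := fun b => by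
    rw [ev_character, ev_character, map_mul, h4, smul_mul_assoc, map_smul, ← map_mul]; rfl
  have h6 := h5 1
  rw [mul_one, mul_one, h, mul_one, ev_mul_comm hc, ← mul_assoc, idem] at h6
  rw [h5, h6]

end Idem

section Bi
variable {F : Type*} [Field F] {a e : F[G]}

variable (F S) in
/-- The two-sided action of `S × S` on the group algebra. -/
noncomputable def biRep : Representation F (S × S) F[G] where
  toFun t := LinearMap.mulLeft F (of F G t.1) ∘ₗ LinearMap.mulRight F (of F G (t.2 : G)⁻¹)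
  map_one' := LinearMap.ext fun a => by simp [← one_def]
  map_mul' s t := LinearMap.ext fun a => by
    simp only [Prod.fst_mul, Prod.snd_mul, Subgroup.coe_mul, mul_inv_rev, map_mul,
      LinearMap.comp_apply, LinearMap.mulLeft_apply, LinearMap.mulRight_apply, Module.End.mul_apply,
      mul_assoc]

omit [Finite G] in
theorem coeff_biRep (t : S × S) (a : F[G]) (x : G) :
    (biRep S F t a).coeff x = a.coeff ((t.1 : G)⁻¹ * x * t.2) := by
  change (of F G t.1 * (a * of F G (t.2 : G)⁻¹)).coeff x = _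
  rw [coeff_of_mul, coeff_mul_of, inv_inv]

theorem biRep_mul (he : e ∈ fix F ⊤) (t : S × S) (a : F[G]) :
    biRep S F t (e * a) = e * biRep S F t a := by
  change of F G t.1 * (e * a * _) = e * (of F G t.1 * (a * _))
  rw [mul_assoc, ← mul_assoc, (commute_of_fix_top he _).eq, mul_assoc]

variable (S) in
/-- The double coset of `x`. -/
def dc (x : G) : Set G := {y | DoubleCoset.mk S S x = DoubleCoset.mk S S y}

omit [Finite G] in
theorem mem_dc {x y : G} : y ∈ dc S x ↔ ∃ s ∈ S, ∃ t ∈ S, y = s * x * t := DoubleCoset.eq S S x y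

omit [Finite G] in
theorem mul_mul_mem_dc {x y s t : G} (hs : s ∈ S) (ht : t ∈ S) : s * y * t ∈ dc S x ↔ y ∈ dc S x :=
  ((DoubleCoset.eq S S y _).2 ⟨s, hs, t, ht, rfl⟩).symm.congr_right

theorem biRep_trunc (t : S × S) (x : G) (a : F[G]) :
    biRep S F t (trunc (dc S x) a) = trunc (dc S x) (biRep S F t a) := ext_coeff fun y => by
  rw [coeff_biRep, coeff_trunc, coeff_trunc, coeff_biRep, mul_mul_mem_dc (inv_mem t.1.2) t.2.2]

theorem biRep_ssum (t : S × S) (x : G) : biRep S F t (ssum F (dc S x)) = ssum F (dc S x) :=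
  ext_coeff fun y => by
    rw [coeff_biRep, coeff_ssum, coeff_ssum, mul_mul_mem_dc (inv_mem t.1.2) t.2.2]

theorem trunc_dc_eq (h : ∀ t, biRep S F t a = a) (x : G) :
    trunc (dc S x) a = a.coeff x • ssum F (dc S x) := ext_coeff fun y => by
  rw [coeff_smul', coeff_trunc, coeff_ssum]
  split_ifs with hy
  · obtain ⟨s, hs, t, ht, rfl⟩ := mem_dc.1 hy
    rw [mul_one, ← h (⟨s, hs⟩, ⟨t⁻¹, inv_mem ht⟩), coeff_biRep, h]
    congr 1; simp only; group
  · rw [mul_zero]

theorem trunc_dc_mul_of (hQ : Q ≤ S) (hg : g⁻¹ ⋆ Q ≤ S) (h : a * of F G g⁻¹ ∈ fix F Q) (x : G) :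
    trunc (dc S x) a * of F G g⁻¹ ∈ fix F Q := mem_fix_iff_coeff.2 fun q hq y => by
  have h1 := coeff_conj_of_mem_fix h hq y
  simp only [coeff_mul_of, inv_inv, coeff_trunc] at h1 ⊢
  rw [h1, show q * y * q⁻¹ * g = q * (y * g) * (g⁻¹ * q⁻¹ * g⁻¹⁻¹) by group,
    mul_mul_mem_dc (hQ hq) (conj_le_iff.1 hg _ (inv_mem hq))]

variable {p : ℕ} [hp : Fact p.Prime] [CharP F p]

omit [Finite G] hp in
theorem isPGroup_prod_self (hS : IsPGroup p S) : IsPGroup p (S × S) := fun t => by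
  obtain ⟨k, hk⟩ := hS t.1
  obtain ⟨l, hl⟩ := hS t.2
  exact ⟨k + l, Prod.ext (by rw [Prod.pow_fst, pow_add, pow_mul, hk, one_pow]; rfl)
    (by rw [Prod.pow_snd, pow_add, mul_comm, pow_mul, hl, one_pow]; rfl)⟩

theorem exists_eq_of_inj_on_fixed (hS : IsPGroup p S) (T : F[G] →ₗ[F] F[G])
    (hT : ∀ t a, biRep S F t (T a) = T (biRep S F t a)) (W : Submodule F F[G])
    (hW : ∀ t, ∀ a ∈ W, biRep S F t a ∈ W)
    (h : ∀ a ∈ W, (∀ t, biRep S F t a = a) → T a = 0 → a = 0) (U : Submodule F F[G]) (hU : U ≤ W)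
    (hU' : ∀ a ∈ U, T a ∈ U) {u : F[G]} (hu : u ∈ U) : ∃ v ∈ U, T v = u := by
  have h1 : W ⊓ LinearMap.ker T = ⊥ := by
    by_contra h0
    obtain ⟨v, hv, h2, h3⟩ := Perm.exists_fixed_vector (isPGroup_prod_self hS) (biRep S F)
      (W ⊓ LinearMap.ker T) (fun t v hv => ⟨hW t v hv.1, by
        change T _ = 0; rw [← hT, LinearMap.mem_ker.1 hv.2, map_zero]⟩) h0
    exact h2 (h v hv.1 h3 hv.2)
  have h2 : Function.Injective (T.restrict hU') := (injective_iff_map_eq_zero _).2 fun v hv =>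
    Subtype.ext ((Submodule.eq_bot_iff _).1 h1 v ⟨hU v.2, congrArg Subtype.val hv⟩)
  obtain ⟨v, hv⟩ := LinearMap.injective_iff_surjective.1 h2 ⟨u, hu⟩
  exact ⟨v, v.2, congrArg Subtype.val hv⟩

/-- The key double coset. -/
theorem exists_dc_of_rank_one (hS : IsPGroup p S) (he : e ∈ fix F ⊤) (idem : e * e = e)
    (h0 : e ≠ 0) (h : ∀ a b, (∀ t, biRep S F t a = a) → (∀ t, biRep S F t b = b) → ∀ x y,
      (e * a).coeff x * (e * b).coeff y = (e * a).coeff y * (e * b).coeff x) :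
    ∃ x₀, (∀ x ∈ dc S x₀, br (S ⊓ x ⋆ S) e ≠ 0) ∧ ∀ Q ≤ S, ∀ g, g⁻¹ ⋆ Q ≤ S → br Q e ≠ 0 →
      ∃ y ∈ dc S x₀, y * g⁻¹ ∈ centralizer (Q : Set G) := by
  classical
  have : Finite (DoubleCoset.Quotient (S : Set G) S) := Quotient.finite _
  have := Fintype.ofFinite (DoubleCoset.Quotient (S : Set G) S)
  let W : Submodule F F[G] := LinearMap.eqLocus (LinearMap.mulLeft F e) LinearMap.id
  have hW : ∀ t, ∀ a ∈ W, biRep S F t a ∈ W := fun t a (ha : e * a = a) => by
    change e * _ = _; rw [← biRep_mul he, ha]; rfl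
  let U : (Q : Subgroup G) → G → Submodule F F[G] := fun Q g =>
    (fix F Q).toSubmodule.comap (LinearMap.mulRight F (of F G g⁻¹))
  have hU : ∀ Q g, ∀ a ∈ U Q g, e * a ∈ U Q g := fun Q g a ha => by
    change e * a * _ ∈ fix F Q
    rw [mul_assoc]; exact mul_mem (mem_fix_of_top he) ha
  have hbr : ∀ Q ≤ S, ∀ g, ∀ a ∈ U Q g, br Q (e * a * of F G g⁻¹) ≠ 0 →
      br Q e ≠ 0 ∧ br Q (a * of F G g⁻¹) ≠ 0 := fun Q hQ g a ha h1 => by
    rw [mul_assoc, br_mul (b := a * _) (hS.to_le hQ) (mem_fix_of_top he) ha] at h1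
    exact ⟨left_ne_zero_of_mul h1, right_ne_zero_of_mul h1⟩
  obtain ⟨x₀, hx₀⟩ : ∃ x, (e * ssum F (dc S x)).coeff x ≠ 0 := by
    by_contra! h1
    obtain ⟨z, hz : e * z = z, h2, h3⟩ := Perm.exists_fixed_vector (isPGroup_prod_self hS) (biRep S F) W hW
      ((Submodule.ne_bot_iff W).2 ⟨e, idem, h0⟩)
    obtain ⟨x, hx⟩ := ne_zero_iff_coeff.1 h2
    have h4 : z = ∑ c : DoubleCoset.Quotient (S : Set G) S, trunc (dc S c.out) z :=
      ext_coeff fun y => by
        simp only [coeff_sum', coeff_trunc, dc, Set.mem_ofPred_eq, DoubleCoset.out_eq',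
          Finset.sum_ite_eq', Finset.mem_univ, if_true]
    refine h2 ?_
    rw [← hz, h4, Finset.mul_sum]
    refine Finset.sum_eq_zero fun c _ => ext_coeff fun y => ?_
    have h5 := h _ z (fun t => biRep_ssum t c.out) h3 c.out y
    rw [h1, zero_mul, hz, mul_comm] at h5
    rw [trunc_dc_eq h3, mul_smul_comm, coeff_smul', ← h5, coeff_zero']
  refine ⟨x₀, fun x hx => ?_, fun Q hQ g hg h1 => ?_⟩
  · have hx' : dc S x = dc S x₀ := Set.ext fun y => (Eq.symm hx).congr_left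
    have hx₁ : (e * ssum F (dc S x₀)).coeff x ≠ 0 := by
      obtain ⟨s, hs, t, ht, rfl⟩ := mem_dc.1 hx
      rw [← biRep_ssum (⟨s, hs⟩, ⟨t⁻¹, inv_mem ht⟩), ← biRep_mul he, coeff_biRep]
      convert hx₀ using 2; simp only; group
    have hle : x⁻¹ ⋆ (S ⊓ x ⋆ S) ≤ S := le_conj_iff_inv_conj_le.1 inf_le_right
    let W' : Submodule F F[G] := LinearMap.eqLocus (trunc (dc S x₀)) LinearMap.id
    obtain ⟨v, hv, h1⟩ := exists_eq_of_inj_on_fixed hS (trunc (dc S x₀) ∘ₗ LinearMap.mulLeft F e)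
      (fun t a => by
        simp only [LinearMap.comp_apply, LinearMap.mulLeft_apply, biRep_trunc, biRep_mul he]) W'
      (fun t a (ha : trunc _ a = a) => by change trunc _ _ = _; rw [← biRep_trunc, ha]; rfl)
      (fun a (ha : trunc _ a = a) h1 (h2 : trunc _ (e * a) = 0) => by
        rw [trunc_dc_eq h1] at ha
        have h3 := trunc_eq_zero_iff.1 h2 x hx
        rw [← ha, mul_smul_comm, coeff_smul', mul_eq_zero_iff_right hx₁] at h3
        rw [← ha, h3, zero_smul])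
      (W' ⊓ U (S ⊓ x ⋆ S) x) inf_le_left
      (fun a ha => ⟨trunc_trunc_of_subset subset_rfl _,
        trunc_dc_mul_of inf_le_left hle (hU _ _ a ha.2) x₀⟩) (u := of F G x)
      ⟨trunc_eq_self_iff.2 fun y hy => by
        rw [of_apply, coeff_single', if_neg fun h2 : x = y => hy (h2 ▸ hx)], by
        change of F G x * of F G x⁻¹ ∈ fix F _
        rw [← map_mul, mul_inv_cancel, map_one]; exact one_mem _⟩
    refine (hbr _ inf_le_left x v hv.2 (br_ne_zero_iff.2 ⟨1, one_mem _, ?_⟩)).1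
    have h2 : (trunc (dc S x₀) (e * v)).coeff x = (of F G x).coeff x := congrArg (·.coeff x) h1
    rw [coeff_trunc_of_mem _ hx, of_apply, coeff_single', if_pos rfl] at h2
    rw [coeff_mul_of, inv_inv, one_mul, h2]; exact one_ne_zero
  · obtain ⟨v, hv, h2⟩ := exists_eq_of_inj_on_fixed hS (LinearMap.mulLeft F e ∘ₗ trunc (dc S x₀))
      (fun t a => by
        simp only [LinearMap.comp_apply, LinearMap.mulLeft_apply, biRep_trunc, biRep_mul he]) W hW
      (fun a (ha : e * a = a) h1 (h2 : e * trunc _ a = 0) => ext_coeff fun y => by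
        have h3 := congrArg (·.coeff x₀) h2
        simp only [trunc_dc_eq h1, mul_smul_comm, coeff_smul', coeff_zero',
          mul_eq_zero_iff_right hx₀] at h3
        have h4 := h a _ h1 (fun t => biRep_ssum t x₀) x₀ y
        rwa [ha, h3, zero_mul, eq_comm, mul_eq_zero_iff_right hx₀] at h4)
      (W ⊓ U Q g) inf_le_left
      (fun a ha => ⟨by change e * (e * _) = e * _; rw [← mul_assoc, idem],
        hU _ _ _ (trunc_dc_mul_of hQ hg ha.2 x₀)⟩) (u := e * of F G g)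
      ⟨by change e * (e * _) = e * _; rw [← mul_assoc, idem], hU _ _ _ (by
        change of F G g * of F G g⁻¹ ∈ fix F _
        rw [← map_mul, mul_inv_cancel, map_one]; exact one_mem _)⟩
    have h3 : e * trunc (dc S x₀) v = e * of F G g := h2
    obtain ⟨c, hc, h4⟩ := br_ne_zero_iff.1 (hbr Q hQ g _ (trunc_dc_mul_of hQ hg hv.2 x₀) (by
      rwa [h3, mul_assoc, ← map_mul, mul_inv_cancel, map_one, mul_one])).2
    rw [coeff_mul_of, inv_inv, coeff_trunc] at h4
    exact ⟨c * g, by by_contra h5; exact h4 (if_neg h5), by rwa [mul_inv_cancel_right]⟩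

end Bi

variable {p : ℕ} [hp : Fact p.Prime] {M : Ideal AlgInt} [Modular p M] {B : Set (IrrCharacter G)}

theorem Cfsg.IsPBlock.isNilIn_of_rank_one (hB : IsPBlock M B) (hD : IsDefectGroup p M B D)
    (hS : IsPGroup p S) (hi : ¬ p ∣ S.index) (hDS : D ≤ S)
    (h : ∀ a b, (∀ t, biRep S (Res M) t a = a) → (∀ t, biRep S (Res M) t b = b) → ∀ x y,
      (eblk M B * a).coeff x * (eblk M B * b).coeff y =
        (eblk M B * a).coeff y * (eblk M B * b).coeff x) : IsNilIn p M ⊤ (eblk M B) := by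
  obtain ⟨x₀, h1, h2⟩ := exists_dc_of_rank_one hS (eblk_mem_fix B) hB.eblk_idem hB.eblk_ne_zero h
  have hD' := hB.isDefectGroup_iff_isDefIn_top.1 hD
  obtain ⟨x, hx, h3⟩ := h2 D hDS 1 (by rwa [inv_one, conj_one]) hD'.ne_zero
  rw [inv_one, mul_one] at h3
  have h4 : S ⊓ x ⋆ S = D := by
    have : D ≤ S ⊓ x ⋆ S := le_inf hDS (conj_eq_self_of_mem_centralizer h3 ▸ conj_mono x hDS)
    exact (this.eq_or_lt.resolve_right fun h4 =>
      h1 x hx (hD'.max _ le_top (hS.to_le inf_le_left) h4)).symm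
  have key : ∀ Q ≤ S, br Q (eblk M B) ≠ 0 → ∀ g ∈ normalizer (Q : Set G), ¬ p ∣ orderOf g →
      g ∈ centralizer (Q : Set G) := fun Q hQ h5 g hg hg' => by
    obtain ⟨y, hy, h6⟩ := h2 Q hQ g (by rwa [conj_eq_self_iff.2 (inv_mem hg)]) h5
    obtain ⟨s, hs, t, ht, rfl⟩ := mem_dc.1 (show y ∈ dc S x from (Eq.symm hx).trans hy)
    have h7 : ∀ q ∈ Q, g⁻¹ * q * g = (s * t)⁻¹ * q * (s * t) := fun q hq => by
      have h7 : g⁻¹ * q * g = (s * x * t)⁻¹ * q * (s * x * t) := by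
        calc _ = g⁻¹ * (s * x * t * g⁻¹)⁻¹ * (s * x * t * g⁻¹ * q) * g := by group
          _ = _ := by rw [← h6 q hq]; group
      have h8 : s⁻¹ * q * s ∈ D := by
        refine h4 ▸ mem_inf.2 ⟨mul_mem (mul_mem (inv_mem hs) (hQ hq)) hs, mem_conj.2 ?_⟩
        have := mul_mem (mul_mem ht (hQ ((mem_normalizer_iff''.1 hg q).1 hq))) (inv_mem ht)
        rw [h7] at this
        convert this using 1; group
      rw [h7, show (s * x * t)⁻¹ * q * (s * x * t) = t⁻¹ * x⁻¹ * (s⁻¹ * q * s * x) * t by group,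
        h3 _ h8]; group
    have h8 : ∀ n, ∀ q ∈ Q, (g ^ n)⁻¹ * q * g ^ n = ((s * t) ^ n)⁻¹ * q * (s * t) ^ n := by
      intro n
      induction n with
      | zero => simp
      | succ n ih =>
        intro q hq
        have := h7 _ ((mem_normalizer_iff''.1 (pow_mem hg n) q).1 hq)
        rw [pow_succ, pow_succ, mul_inv_rev, mul_inv_rev ((s * t) ^ n)]
        calc _ = g⁻¹ * ((g ^ n)⁻¹ * q * g ^ n) * g := by group
          _ = _ := by rw [this, ih q hq]; group
    obtain ⟨k, hk⟩ := hS ⟨s * t, mul_mem hs ht⟩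
    have hk' : (s * t) ^ p ^ k = 1 := congrArg Subtype.val hk
    refine mem_of_pow_mem_of_coprime (n := p ^ k) (fun q hq => ?_)
      ((Core.coprime_iff_not_dvd.2 hg').pow_right k)
    have := h8 (p ^ k) q hq
    rw [hk', inv_one, one_mul, mul_one] at this
    rw [← this, ← mul_assoc, ← mul_assoc, mul_inv_cancel, one_mul, this]
  intro Q f hf g _ hg _ hg'
  obtain ⟨y, hy⟩ := exists_conj_le_of_not_dvd_index hi hf.pgrp
  have := key _ hy (br_map_conj_ne_zero (eblk_mem_fix B y (mem_top y))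
    (left_ne_zero_of_mul (hf.mul.symm ▸ hf.blk.ne_zero))) (y * g * y⁻¹)
    (by rwa [← conj_normalizer, conj_mem_conj]) (by rwa [orderOf_conj_eq])
  rwa [← conj_centralizer, conj_mem_conj] at this

omit hp in
theorem avg_mul_of_biRep {a : ℂ[G]} (h : ∀ t, biRep S ℂ t a = a) :
    ((Nat.card S : ℂ)⁻¹ • ssum ℂ (S : Set G)) * a = a ∧
      a * ((Nat.card S : ℂ)⁻¹ • ssum ℂ (S : Set G)) = a := by
  classical
  have := Fintype.ofFinite G
  have h0 : (Nat.card S : ℂ) ≠ 0 := Nat.cast_ne_zero.2 Nat.card_pos.ne'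
  have h1 : ∑ g with g ∈ (S : Set G), a = (Nat.card S : ℂ) • a := by
    rw [Finset.sum_const, Nat.card_eq_fintype_card, Fintype.card_subtype, Nat.cast_smul_eq_nsmul]
    rfl
  rw [smul_mul_assoc, mul_smul_comm, ssum_eq_sum, Finset.sum_mul, Finset.mul_sum]
  constructor
  · rw [Finset.sum_congr rfl fun s hs => ?_, h1, inv_smul_smul₀ h0]
    simpa [biRep, ← one_def] using h (⟨s, (Finset.mem_filter.1 hs).2⟩, 1)
  · rw [Finset.sum_congr rfl fun s hs => ?_, h1, inv_smul_smul₀ h0]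
    simpa [biRep, ← one_def] using h (1, ⟨s⁻¹, inv_mem (Finset.mem_filter.1 hs).2⟩)

open Classical in
/-- Linckelmann: a block of dimension `p ^ (2 a - d)` is nilpotent. -/
theorem Cfsg.IsPBlock.isNilIn_of_min_dim (hB : IsPBlock M B)
    (h : ∑ χ with χ ∈ B, charDegree (χ : G → ℂ) ^ 2 =
      p ^ (2 * (Nat.card G).factorization p - blockDefect p B)) : IsNilIn p M ⊤ (eblk M B) := by
  have := Fintype.ofFinite G
  obtain ⟨D, hD⟩ := hB.exists_isDefectGroup (p := p)
  obtain ⟨S, hDS⟩ := hD.isPGroup.exists_le_sylow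
  let ε : ℂ[G] := (Nat.card S : ℂ)⁻¹ • ssum ℂ ((S : Subgroup G) : Set G)
  have hε : ∀ t, biRep (S : Subgroup G) ℂ t ε = ε := fun t => ext_coeff fun x => by
    rw [coeff_biRep, coeff_smul', coeff_smul', coeff_ssum, coeff_ssum]
    simp only [SetLike.mem_coe, mul_mem_cancel_right t.2.2, mul_mem_cancel_left (inv_mem t.1.2)]
  have idem : ε * ε = ε := (avg_mul_of_biRep hε).1
  choose n hn using fun χ : IrrCharacter G => exists_ev_idem_eq χ.2.isCharacter idem
  have hco : ∀ (a : ℂ[G]) x, (fblk B * a).coeff x = (Nat.card G : ℂ)⁻¹ *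
      ∑ χ with χ ∈ B, (χ : G → ℂ) 1 * ev χ (a * of ℂ G x⁻¹) := fun a x => by
    rw [coeff_eq_sum_irr, Finset.sum_filter]
    refine congrArg _ (Finset.sum_congr rfl fun χ _ => ?_)
    split_ifs with h1
    · rw [mul_assoc, ev_fblk_mul_of_mem h1]
    · rw [mul_assoc, ev_fblk_mul_of_notMem h1, mul_zero]
  have h1 : Nat.card S * ∑ χ with χ ∈ B, charDegree (χ : G → ℂ) * n χ =
      ∑ χ with χ ∈ B, charDegree (χ : G → ℂ) ^ 2 := by
    have h2 := hco ε 1
    rw [coeff_mul_left, Finset.sum_eq_single 1 (fun x _ hx => ?_) (by simp), coeff_fblk,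
      blockCoeff_eq, coeff_smul', coeff_ssum_of_mem (by simp), mul_one, mul_assoc,
      mul_right_inj' (inv_ne_zero (Nat.cast_ne_zero.2 Nat.card_pos.ne')),
      mul_inv_eq_iff_eq_mul₀ (Nat.cast_ne_zero.2 Nat.card_pos.ne')] at h2
    · simp only [inv_one, map_one, mul_one, hn, fun χ : IrrCharacter G =>
        apply_one_eq_charDegree χ.2.isCharacter, map_natCast, ← sq] at h2
      rw [mul_comm]; exact_mod_cast h2.symm
    · by_cases h3 : x ∈ (S : Subgroup G)
      · rw [coeff_fblk, hB.blockCoeff_eq_zero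
          (dvd_orderOf_of_pElt (pElt_of_mem hp.out S.isPGroup' h3) hx), zero_mul]
      · rw [coeff_smul', coeff_ssum_of_notMem (by rwa [mul_one, SetLike.mem_coe, inv_mem_iff]), mul_zero, mul_zero]
  have h2 : ∑ χ with χ ∈ B, n χ ≤ 1 := by
    have h3 := factorization_card_eq_add (p := p) D
    rw [← hB.blockDefect_eq_factorization hD] at h3
    have h4 : p ^ D.index.factorization p * ∑ χ with χ ∈ B, n χ ≤
        ∑ χ with χ ∈ B, charDegree (χ : G → ℂ) * n χ := by
      rw [Finset.mul_sum]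
      refine Finset.sum_le_sum fun χ hχ => Nat.mul_le_mul_right _ (Nat.le_of_dvd
        (charDegree_ne_zero χ.2).bot_lt ((hp.out.pow_dvd_iff_le_factorization
          (charDegree_ne_zero χ.2)).2 ?_))
      rw [hB.factorization_degree_eq hD (Finset.mem_filter.1 hχ).2]; omega
    have h5 := Nat.mul_le_mul_left (Nat.card S) h4
    rw [h1, h, S.card_eq_multiplicity, ← mul_assoc, ← pow_add, show 2 * (Nat.card G).factorization p
      - blockDefect p B = (Nat.card G).factorization p + D.index.factorization p by omega] at h5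
    exact Nat.le_of_mul_le_mul_left (h5.trans (mul_one _).ge) (pow_pos hp.out.pos _)
  obtain ⟨u, hu⟩ : ∃ u : G → ℂ, ∀ a : ℂ[G], (∀ t, biRep (S : Subgroup G) ℂ t a = a) → ∃ c, ∀ x,
      (fblk B * a).coeff x = c * u x := by
    have h3 : ∀ a : ℂ[G], (∀ t, biRep (S : Subgroup G) ℂ t a = a) → ∀ x (χ : IrrCharacter G), n χ = 0 →
        (χ : G → ℂ) 1 * ev χ (a * of ℂ G x⁻¹) = 0 := fun a ha x χ h3 => by
      rw [← (avg_mul_of_biRep ha).1, mul_assoc, ev_idem_mul_eq_zero χ.2.isCharacter idem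
        (by rw [hn, h3, Nat.cast_zero]), mul_zero]
    by_cases h4 : ∃ χ ∈ B, n χ ≠ 0
    · obtain ⟨χ, hχ, h4⟩ := h4
      have hχ' : χ ∈ Finset.univ.filter (· ∈ B) := by simpa using hχ
      rw [← Finset.add_sum_erase _ _ hχ'] at h2
      refine ⟨fun x => ev χ (ε * of ℂ G x⁻¹), fun a ha => ⟨(Nat.card G : ℂ)⁻¹ *
        ((χ : G → ℂ) 1 * ev χ (ε * a)), fun x => ?_⟩⟩
      rw [hco, Finset.sum_eq_single_of_mem χ hχ' fun ψ hψ h5 => h3 a ha x ψ
        (Finset.sum_eq_zero_iff.1 (by omega) ψ (Finset.mem_erase.2 ⟨h5, hψ⟩)), mul_assoc, mul_assoc,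
        ← ev_idem_mul_mul χ.2.isCharacter idem (by rw [hn, show n χ = 1 by omega, Nat.cast_one]),
        (avg_mul_of_biRep ha).1, (avg_mul_of_biRep ha).2]
    · push Not at h4
      exact ⟨0, fun a ha => ⟨0, fun x => by
        rw [hco, Finset.sum_eq_zero fun χ hχ => h3 a ha x χ (h4 χ (Finset.mem_filter.1 hχ).2),
          mul_zero, zero_mul]⟩⟩
  refine hB.isNilIn_of_rank_one hD S.isPGroup' S.not_dvd_index hDS fun a b ha hb x y => ?_
  have h3 : ∀ a : (Res M)[G], (∀ t, biRep (S : Subgroup G) (Res M) t a = a) →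
      ∀ t, biRep (S : Subgroup G) ℂ t (liftA M a) = liftA M a := fun a ha t => ext_coeff fun x => by
    rw [coeff_biRep, coeff_liftA, coeff_liftA, ← coeff_biRep, ha]
  have h4 : ∀ a : (Res M)[G], eblk M B * a = redA M (fblk B * liftA M a) := fun a => by
    rw [redA_mul hB.fblk_mem_SG (liftA_mem_SG a), redA_liftA]; rfl
  have h5 := fun a : (Res M)[G] => mul_mem hB.fblk_mem_SG (liftA_mem_SG a)
  obtain ⟨c, hc⟩ := hu _ (h3 a ha)
  obtain ⟨d, hd⟩ := hu _ (h3 b hb)
  simp only [h4, coeff_redA]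
  rw [← red_mul (h5 a x) (h5 b y), ← red_mul (h5 a y) (h5 b x), hc, hc, hd, hd]
  congr 1; ring

end Cfsg.Lib.Block
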