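import Cfsg.Agent.Lib.Block.Aug
import Cfsg.Agent.Lib.Modular.Vanish
import Cfsg.Agent.Lib.CharDeg.Cd

/-!
# Thompson's theorem on character degrees for the principal block (Isaacs-Smith, Pahlings)
-/

set_option autoImplicit false
set_option linter.unusedSectionVars false

namespace Cfsg.Lib.Block

open _root_.Cfsg.Lib.Block MonoidAlgebra Cfsg.Lib.Char Cfsg.Lib.Modular Cfsg.Lib.Transfer Subgroup
open Cfsg.Lib.Clifford Cfsg.Lib.CharDeg

variable {G : Type*} [Group G] [Finite G] {p : ℕ} [hp : Fact p.Prime] {M : Ideal AlgInt}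
  [Modular p M]

theorem hom_mem_locRing (l : G →* ℂˣ) (g : G) : (l g : ℂ) ∈ locRing M :=
  mem_locRing_of_pow_eq_one (Nat.card_pos (α := G)).ne' (by
    rw [← Units.val_pow_eq_pow_val, ← map_pow, pow_card_eq_one', map_one, Units.val_one])

theorem hom_mem_principal_iff {l : G →* ℂˣ} :
    (⟨_, isIrrCharacter_hom l⟩ : IrrCharacter G) ∈ principalBlock M G ↔
      ∀ g, MemLocalIdeal M (((centralizer ({g} : Set G)).index : ℂ) * (1 - l g)) :=
  forall_congr' fun g => by simp [centralChar, mul_sub]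

variable (M G) in
/-- The linear characters in the principal block. -/
def prinHom : Subgroup (G →* ℂˣ) where
  carrier := {l | ∀ g, MemLocalIdeal M (((centralizer ({g} : Set G)).index : ℂ) * (1 - l g))}
  one_mem' g := by simpa using memLocalIdeal_zero
  mul_mem' {l l'} h h' g := by
    have := memLocalIdeal_add (h g) (memLocalIdeal_mul_left (hom_mem_locRing l g) (h' g))
    rw [MonoidHom.mul_apply, Units.val_mul]
    exact (congrArg _ (by ring)).mp this
  inv_mem' {l} h g := by
    have := memLocalIdeal_mul_left (neg_mem (hom_mem_locRing l⁻¹ g)) (h g)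
    rw [MonoidHom.inv_apply, Units.val_inv_eq_inv_val] at this ⊢
    exact (congrArg _ (by field_simp; ring)).mp this

theorem mem_prinHom {l : G →* ℂˣ} :
    l ∈ prinHom G M ↔ (⟨_, isIrrCharacter_hom l⟩ : IrrCharacter G) ∈ principalBlock M G :=
  hom_mem_principal_iff.symm

variable (M) in
theorem hasNormalPComplement_of_principal (h : ∀ χ ∈ principalBlock M G,
    ¬ p ∣ charDegree (χ : G → ℂ) → charDegree (χ : G → ℂ) = 1) : HasNormalPComplement p G := by
  classical
  rw [hasNormalPComplement_iff_card_pResidual, Nat.coprime_comm, hp.out.coprime_iff_not_dvd]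
  set N := pResidual p G with hN
  intro hd
  have : N.Normal := pResidual_normal
  have := Fintype.ofFinite N
  have := finite_hom_units N
  obtain ⟨P⟩ : Nonempty (Sylow p G) := inferInstance
  obtain ⟨k, hk⟩ := exists_index_pResidual_eq_pow (G := G) (p := p)
  let σ : P →* Equiv.Perm (IrrCharacter N) :=
    irrPermAut.comp ((MulAut.conjNormal (H := N)).comp (P : Subgroup G).subtype)
  have hfix : ∀ θ : IrrCharacter N, (∀ s, σ s θ = θ) → inertia N (θ : N → ℂ) = ⊤ := fun θ h => by
    rw [eq_top_iff, ← pResidual_sup_sylow P, sup_le_iff]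
    refine ⟨le_inertia N θ.2.isClassFunction, fun s hs => (mem_inertia_iff N).2 fun n => ?_⟩
    exact (irrPermAut_eq_iff _ _).1 (h ⟨s, hs⟩) n
  have h1 := sum_eq_sum_fixed_zmod P.isPGroup' σ
    (Subtype.val : {θ : IrrCharacter N // ∀ s, σ s θ = θ} → _) Subtype.val_injective
    (fun θ => by simp)
    (fun θ => if θ ∈ principalBlock M N then (charDegree (θ : N → ℂ) : ZMod p) ^ 2 else 0)
    (fun s θ => by
      refine if_congr ?_ ?_ rfl
      · conv_rhs => rw [← preimage_irrEquiv_principalBlock (MulAut.conjNormal (s : G)).symm]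
        rfl
      · congr 2
        exact charDegree_congr (by simp [σ, irrPermAut_apply]))
  have h2 := factorization_sum_degree_sq (p := p) (isPBlock_principalBlock (M := M) (G := N))
  have h3 : blockDefect p (principalBlock M N) ≤ (Nat.card N).factorization p := Nat.sub_le _ _
  have h4 := hp.out.factorization_pos_of_dvd Nat.card_pos.ne' hd
  have h5 := (ZMod.natCast_eq_zero_iff _ _).2
    (Nat.dvd_of_factorization_pos (h2.trans_ne (by omega)))
  rw [Nat.cast_sum, Finset.sum_filter] at h5
  simp only [Nat.cast_pow] at h5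
  let S : Subgroup (N →* ℂˣ) := prinHom N M ⊓
    ⨅ s : P, MonoidHom.eqLocus (MonoidHom.id _) (MonoidHom.compHom' (MulAut.conjNormal (s : G)).toMonoidHom)
  have hS : ∀ l, l ∈ S ↔ l ∈ prinHom N M ∧ ∀ s, σ s ⟨_, isIrrCharacter_hom l⟩ =
      ⟨_, isIrrCharacter_hom l⟩ := fun l => and_congr_right fun _ => by
    refine Subgroup.mem_iInf.trans (forall_congr' fun s => Iff.trans ?_ (irrPermAut_eq_iff _ _).symm)
    exact ⟨fun e n => congrArg Units.val (DFunLike.congr_fun e n).symm,
      fun e => MonoidHom.ext fun n => Units.ext (e n).symm⟩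
  have h6 : ¬ p ∣ Nat.card S := fun e => by
    obtain ⟨l, hl⟩ := exists_prime_orderOf_dvd_card' p e
    exact not_dvd_orderOf_hom pResidual_pResidual l.1 (by rw [orderOf_coe, hl])
  have := Fintype.ofFinite S
  refine h6 ((ZMod.natCast_eq_zero_iff _ _).1 ?_)
  rw [← h5, h1, Nat.card_eq_fintype_card, Fintype.card_eq_sum_ones, Nat.cast_sum]
  refine Finset.sum_of_injOn (fun l => ⟨⟨_, isIrrCharacter_hom l.1⟩, ((hS _).1 l.2).2⟩)
    (fun l _ l' _ e => Subtype.ext (MonoidHom.ext fun n => Units.ext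
      (congrFun (congrArg (fun x => x.1.1) e) n))) (fun _ _ => Finset.mem_univ _)
    (fun θ _ hθ => ?_) fun l _ => ?_
  · split_ifs with h7
    · rw [pow_eq_zero_iff two_ne_zero, ZMod.natCast_eq_zero_iff]
      by_contra h8
      obtain ⟨χ, h9, h10⟩ := exists_extension_of_coprime_detOrder N θ.1.2
        ((inertia_eq_top_iff N).1 (hfix _ θ.2)) (hk ▸ ((hp.out.coprime_iff_not_dvd).2 fun e =>
          ((hp.out.dvd_mul).1 e).elim (by
            rw [detOrder_eq_orderOf_detHom]
            exact not_dvd_orderOf_hom pResidual_pResidual _) h8).pow_left k)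
      have h11 : charDegree χ = charDegree (θ.1 : N → ℂ) := charDegree_congr (h10 1)
      have h12 := h ⟨χ, h9⟩ (Over.mem_principal_of_index ⟨k, hk⟩ ((over_subtype_iff ⟨χ, h9⟩ θ.1).2 (by
        rw [funext h10, θ.1.2.inner_self]; exact one_ne_zero)) h7) (h11 ▸ h8)
      obtain ⟨l, hl⟩ := θ.1.2.isCharacter.exists_hom_of_apply_one (by
        rw [θ.1.2.apply_one_eq, ← h11, h12, Nat.cast_one])
      have h13 : θ.1 = ⟨_, isIrrCharacter_hom l⟩ := Subtype.ext hl
      exact hθ ⟨⟨l, (hS l).2 ⟨mem_prinHom.2 (h13 ▸ h7), h13 ▸ θ.2⟩⟩, Finset.mem_univ _,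
        Subtype.ext h13.symm⟩
    · rfl
  · rw [if_pos (mem_prinHom.1 ((hS _).1 l.2).1), charDegree_eq_of_apply_one (n := 1) (by simp)]
    simp

end Cfsg.Lib.Block
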