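import Cfsg.Agent.Lib.Block.Proj
import Cfsg.Agent.Lib.Block.Major
import Cfsg.Agent.Lib.Modular.Vanish
import Cfsg.Agent.Lib.Modular.Rank

/-!
# Projective indecomposable characters: traces on the regular part, the dimension of a block
-/

set_option autoImplicit false
set_option linter.unusedSectionVars false

namespace Cfsg.Lib.Block
open _root_.Cfsg.Lib.Block MonoidAlgebra Cfsg.Lib.Char Cfsg.Lib.Modular Finset
open scoped ComplexConjugate

variable {G : Type*} [Group G] [Fintype G] {p : ℕ} [hp : Fact p.Prime] {M : Ideal AlgInt}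
  [Modular p M]

theorem sum_coeff_conj_eq (ε : ℂ[G]) (g : G) :
    ∑ i, ε.coeff (i⁻¹ * (g⁻¹ * i)) = ∑ χ : IrrCharacter G, ev χ ε * (χ : G → ℂ) g := by
  rw [sum_congr rfl fun i _ => coeff_eq_sum_irr ε _, ← mul_sum, sum_comm, mul_sum]
  simp only [ev_mul_of]
  refine sum_congr rfl fun χ _ => ?_
  have h0 : (Nat.card G : ℂ) ≠ 0 := Nat.cast_ne_zero.2 Nat.card_pos.ne'
  have h1 : ∀ y, ∑ i, (χ : G → ℂ) (y * (i⁻¹ * (g⁻¹ * i))⁻¹) =
      Nat.card G * (χ : G → ℂ) g * (χ : G → ℂ) y / (χ : G → ℂ) 1 := fun y => by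
    rw [← χ.2.sum_conj_mul, ← Equiv.sum_comp (Equiv.inv G)]
    refine sum_congr rfl fun x _ => ?_
    rw [χ.2.isClassFunction.mul_comm]
    simp [mul_assoc]
  rw [← mul_sum, sum_comm]
  simp only [← mul_sum, h1]
  rw [ev_apply, mul_sum, mul_sum, sum_mul]
  refine sum_congr rfl fun y _ => ?_
  field_simp [χ.2.apply_one_ne_zero]

/-- Projective characters vanish on the `p`-singular elements. -/
theorem sum_ev_mul_eq_zero {ε : ℂ[G]} (h : ε ∈ SG G M) (idem : ε * ε = ε) {g : G}
    (hg : p ∣ orderOf g) : ∑ χ : IrrCharacter G, ev χ ε * (χ : G → ℂ) g = 0 := by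
  classical
  rw [← sum_coeff_conj_eq]
  have h1 := sum_perm_eq_zero (M := M) (E := Matrix.of fun i j : G => ε.coeff (j⁻¹ * i))
    (fun i j => h _) ?_ (MulAction.toPermHom G G) g⁻¹ ?_ ?_
  · simpa using h1
  · ext i j
    rw [Matrix.mul_apply, Matrix.of_apply]
    conv_rhs => rw [← idem, coeff_mul_left]
    refine (Fintype.sum_equiv (Equiv.mulLeft j) _ _ fun x => ?_).symm
    simp [mul_assoc, mul_comm]
  · intro i j
    simp [mul_assoc]
  · intro ω hω
    refine (pPart_ne_one_iff hp.out).2 (show p ∣ orderOf g⁻¹ by rwa [orderOf_inv]) ?_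
    simpa using hω

variable (M) in
/-- The idempotents `f i` afford the projective indecomposable characters `Φ i`. -/
structure Pims {r : ℕ} (f : Fin r → SG G M) (Φ : Fin r → IrrCharacter G → ℕ) : Prop where
  idem : ∀ i, f i * f i = f i
  val : ∀ i (χ : IrrCharacter G), ev χ (f i : ℂ[G]) = Φ i χ
  inj : ∀ c c' : Fin r → ℂ, (∀ χ, ∑ i, c i * Φ i χ = ∑ i, c' i * Φ i χ) → c = c'
  span : ∀ ε : SG G M, ε * ε = ε → ∃ n : Fin r → ℕ, ∀ χ : IrrCharacter G,
    ev χ (ε : ℂ[G]) = ∑ i, (n i : ℂ) * Φ i χ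

variable (G M) in
theorem exists_pims' : ∃ (r : ℕ) (f : Fin r → SG G M) (Φ : Fin r → IrrCharacter G → ℕ),
    Pims M f Φ := by
  obtain ⟨r, d, ρ, f, T, h, hf, hT, hρ, hli⟩ := exists_pims G M
  choose Φ hΦ using fun (i : Fin r) (χ : IrrCharacter G) =>
    exists_ev_idem_eq χ.2.isCharacter (congrArg Subtype.val (hf i))
  have hΦ' : ∀ i χ, evs G M (f i) χ = Φ i χ := hΦ
  refine ⟨r, f, Φ, hf, hΦ, fun c c' hc => funext
    (Fintype.linearIndependent_iffₛ.1 hli c c' (funext fun χ => ?_)), fun ε hε => ?_⟩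
  · simpa [hΦ'] using hc χ
  · obtain ⟨n, hn, -⟩ := h.exists_eq_sum hf hT hρ (evs G M) evs_mul_comm hε
    exact ⟨n, fun χ => (congrFun hn χ).trans (by simp [hΦ'])⟩

variable {r : ℕ} {f : Fin r → SG G M} {Φ : Fin r → IrrCharacter G → ℕ}
  {A B : Set (IrrCharacter G)}

theorem Pims.van (h : Pims M f Φ) {θ : G → ℂ} (hθ : IsGeneralizedCharacter G θ)
    (h0 : ∀ g, p ∣ orderOf g → θ g = 0) :
    ∃ a : Fin r → ℤ, ∀ χ : IrrCharacter G, classInner (χ : G → ℂ) θ = ∑ i, (a i : ℂ) * Φ i χ := by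
  have h1 := inner_mem_of_vanish (M := M) hθ h0
    (Submodule.span ℤ (Set.range fun i χ => (Φ i χ : ℂ))).toAddSubgroup fun ε hε => by
      obtain ⟨n, hn⟩ := h.span ε hε
      have : evs G M ε = ∑ i, n i • fun χ => (Φ i χ : ℂ) := funext fun χ =>
        (hn χ).trans (by simp)
      rw [this]
      exact sum_mem fun i _ => nsmul_mem (Submodule.subset_span (Set.mem_range_self i)) _
  obtain ⟨a, ha⟩ := (Submodule.mem_span_range_iff_exists_fun ℤ).1 h1
  exact ⟨a, fun χ => by simpa using (congrFun ha χ).symm⟩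

theorem mul_idem (hA : fblk A ∈ SG G M) {ε : SG G M} (h : ε * ε = ε) :
    (⟨_, hA⟩ * ε : SG G M) * (⟨_, hA⟩ * ε) = ⟨_, hA⟩ * ε := Subtype.ext <| by
  have h1 := (commute_of_fix_top (fblk_mem_fix A) (ε : ℂ[G])).eq
  have h2 : (ε : ℂ[G]) * ε = ε := congrArg Subtype.val h
  change fblk A * ε * (fblk A * ε) = fblk A * ε
  rw [mul_assoc, ← mul_assoc (ε : ℂ[G]), h1, ← mul_assoc, ← mul_assoc, fblk_idem, mul_assoc, h2]

open Classical in
theorem ev_fblk_mul_ite (A : Set (IrrCharacter G)) (χ : IrrCharacter G) (a : ℂ[G]) :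
    ev χ (fblk A * a) = if χ ∈ A then ev χ a else 0 := by
  split_ifs with h
  exacts [ev_fblk_mul_of_mem h a, ev_fblk_mul_of_notMem h a]

open Classical in
theorem Pims.exists_part (h : Pims M f Φ) (hA : fblk A ∈ SG G M) : ∃ m : Fin r → Fin r → ℕ,
    ∀ j χ, (if χ ∈ A then (Φ j χ : ℂ) else 0) = ∑ i, (m j i : ℂ) * Φ i χ := by
  choose m hm using fun j => h.span _ (mul_idem hA (h.idem j))
  exact ⟨m, fun j χ => by rw [← hm, ← h.val, ← ev_fblk_mul_ite]; rfl⟩

open Classical in
/-- The trace of an endomorphism preserving projective characters. -/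
theorem Pims.trace (h : Pims M f Φ) (hA : fblk A ∈ SG G M) {m n : Fin r → Fin r → ℕ}
    (hm : ∀ j χ, (if χ ∈ A then (Φ j χ : ℂ) else 0) = ∑ i, (m j i : ℂ) * Φ i χ)
    (s : IrrCharacter G → IrrCharacter G)
    (hn : ∀ i χ, (Φ i (s χ) : ℂ) = ∑ j, (n i j : ℂ) * Φ j χ) :
    ∑ ξ with ξ ∈ A, regInner p (s ξ : G → ℂ) ξ = (∑ i, ∑ j, n i j * m j i : ℕ) := by
  set q : ℂ := (p : ℂ) ^ (Nat.card G).factorization p with hq
  have hq0 : q ≠ 0 := pow_ne_zero_complex _
  choose a ha using fun ξ : IrrCharacter G => h.van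
    (isGeneralizedCharacter_pow_smul_pRegularPart (p := p) ξ.2.isGeneralizedCharacter)
    fun g hg => by rw [Pi.smul_apply, pRegularPart_of_dvd _ hg, smul_zero]
  replace ha : ∀ ξ χ : IrrCharacter G, q * regInner p (χ : G → ℂ) ξ =
      ∑ i, (a ξ i : ℂ) * Φ i χ := fun ξ χ => by
    rw [← ha, classInner_smul_right, regInner_eq_right, hq]
    simp
  have key : ∀ j, (fun i => ∑ ξ with ξ ∈ A, (a ξ i : ℂ) * Φ j ξ) = fun i => q * m j i :=
    fun j => h.inj _ _ fun χ => by
      have h1 : ∀ g, p ∣ orderOf g → (∑ ξ with ξ ∈ A, (Φ j ξ : ℂ) • (ξ : G → ℂ)) g = 0 :=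
        fun g hg => by
          have h3 := sum_ev_mul_eq_zero (ε := fblk A * (f j : ℂ[G])) (mul_mem hA (f j).2)
            (congrArg Subtype.val (mul_idem hA (h.idem j)) :) hg
          rw [Finset.sum_apply, sum_filter]
          refine Eq.trans ?_ h3
          refine sum_congr rfl fun ξ _ => ?_
          rw [ev_fblk_mul_ite, h.val]
          split_ifs <;> simp
      have h2 := regInner_eq_classInner_right (χ : G → ℂ) h1
      rw [regInner_sum_right, ← conj_classInner, classInner_sum_filter_smul] at h2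
      simp only [mul_assoc, ← mul_sum, ← hm, sum_mul]
      rw [sum_comm, show (if χ ∈ A then (Φ j χ : ℂ) else 0) =
        conj (if χ ∈ A then (Φ j χ : ℂ) else 0) by split_ifs <;> simp, ← h2, mul_sum]
      refine sum_congr rfl fun ξ _ => ?_
      rw [regInner_smul_right, mul_left_comm, ha, mul_sum]
      exact sum_congr rfl fun i _ => by simp; ring
  apply mul_left_cancel₀ hq0
  simp only [mul_sum, ha, hn]
  push_cast
  rw [sum_comm, mul_sum]
  refine sum_congr rfl fun i _ => ?_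
  rw [sum_comm, mul_sum]
  refine sum_congr rfl fun j _ => ?_
  rw [mul_left_comm, ← congrFun (key j) i, mul_sum]
  exact sum_congr rfl fun ξ _ => by ring

open Classical in
/-- The trace of an automorphism on the regular part of a union of blocks is nonnegative. -/
theorem exists_sum_regInner_comp (hA : fblk A ∈ SG G M) (τ : G ≃* G) :
    ∃ N : ℕ, ∑ ξ with ξ ∈ A, regInner p (fun g => (ξ : G → ℂ) (τ g)) ξ = N := by
  obtain ⟨r, f, Φ, h⟩ := exists_pims' G M
  obtain ⟨m, hm⟩ := h.exists_part hA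
  choose n hn using fun i => h.span ⟨_, emb_mem_SG τ.toMonoidHom (f i).2⟩
    (Subtype.ext ((map_mul _ _ _).symm.trans (congrArg _ (congrArg Subtype.val (h.idem i)))))
  exact ⟨_, h.trace hA hm (fun ξ => ⟨_, ξ.2.comp_equiv τ⟩) fun i χ => by
    rw [← hn, ← h.val, ev_emb]; rfl⟩

theorem pow_dvd_of_sum_ev {ε : ℂ[G]} (h : ε ∈ SG G M) {D : ℕ}
    (hD : ∑ χ : IrrCharacter G, ev χ ε * (χ : G → ℂ) 1 = D) :
    p ^ (Nat.card G).factorization p ∣ D := by
  rcases eq_or_ne D 0 with rfl | h0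
  · exact dvd_zero _
  rw [← sum_coeff_conj_eq] at hD
  have h1 : (D : ℂ) / Nat.card G = ε.coeff 1 := by
    rw [← hD, div_eq_iff (card_ne_zero_complex G)]
    simp [mul_comm]
  exact (hp.out.pow_dvd_iff_le_factorization h0).2
    (factorization_le_of_div_mem (M := M) h0 Nat.card_pos.ne' (h1 ▸ h 1))

open Classical in
/-- Brauer: the dimension of a block. -/
theorem exists_sum_degree_sq (hB : IsPBlock M B) {g u : ℕ}
    (hg : ∀ χ ∈ B, g ∣ charDegree (χ : G → ℂ)) (hu : u ∣ g) (hpu : ¬ p ∣ u) :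
    ∃ v, blockRank p B ≤ v ∧ ∑ χ with χ ∈ B, charDegree (χ : G → ℂ) ^ 2 =
      g * (p ^ (Nat.card G).factorization p * u) * v := by
  obtain ⟨r, f, Φ, h⟩ := exists_pims' G M
  have hA := hB.fblk_mem_SG
  obtain ⟨m, hm⟩ := h.exists_part hA
  obtain ⟨m', hm'⟩ := h.exists_part hB.fblk_compl_mem_SG
  have h1 : blockRank p B = ∑ i, m i i := by
    have := h.trace hA hm (n := fun i j => if i = j then 1 else 0) id fun i χ => by simp
    simpa using Nat.cast_injective ((blockRank_eq_sum hB).trans this)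
  have h2 : ∀ j, m j j ≤ 1 := fun j => by
    have := congrFun (h.inj (fun i => m j i + m' j i) (fun i => if i = j then 1 else 0) fun χ => by
      simp only [add_mul, sum_add_distrib, ← hm, ← hm']
      by_cases hχ : χ ∈ B <;> simp [hχ]) j
    simp only [if_true] at this
    have : m j j + m' j j = 1 := by exact_mod_cast this
    omega
  let e : SG G M := ⟨_, hA⟩
  have ee : e * e = e := Subtype.ext (fblk_idem B)
  obtain ⟨n, hn⟩ := h.span e ee
  have hn' : ∀ χ ∈ B, (χ : G → ℂ) 1 = ∑ i, (n i : ℂ) * Φ i χ := fun χ hχ => by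
    rw [← hn, ← mul_one (e : ℂ[G]), ev_fblk_mul_of_mem hχ, ev_one]
  have h3 : ∀ j, m j j ≤ n j := fun j => by
    have e1 := mul_idem hA (h.idem j)
    have e2 : e * f j * e = e * f j := Subtype.ext <| by
      change fblk B * f j * fblk B = fblk B * f j
      rw [mul_assoc, (commute_of_fix_top (fblk_mem_fix B) (f j : ℂ[G])).eq, ← mul_assoc, fblk_idem]
    obtain ⟨n', h'⟩ := h.span (e - e * f j) (by
      rw [sub_mul, mul_sub, mul_sub, ee, e1, e2, ← mul_assoc, ee]; abel)
    have := congrFun (h.inj (fun i => n i) (fun i => m j i + n' i) fun χ => by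
      simp only [add_mul, sum_add_distrib, ← hm, ← hn, ← h']
      rw [Subalgebra.coe_sub, map_sub, ← h.val, ← ev_fblk_mul_ite]
      exact (add_sub_cancel _ _).symm) j
    have : n j = m j j + n' j := by exact_mod_cast this
    omega
  obtain ⟨χ₀, hχ₀⟩ := hB.nonempty
  have hg0 : g ≠ 0 := fun e => χ₀.2.charDegree_pos.ne' (zero_dvd_iff.1 (e ▸ hg χ₀ hχ₀))
  have hd : ∀ χ ∈ B, (χ : G → ℂ) 1 = g * (charDegree (χ : G → ℂ) / g : ℕ) := fun χ hχ => by
    rw [χ.2.apply_one_eq, ← Nat.cast_mul, Nat.mul_div_cancel' (hg χ hχ)]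
  obtain ⟨a, ha⟩ := h.van
    (θ := ∑ χ with χ ∈ B, ((charDegree (χ : G → ℂ) / g : ℕ) : ℂ) • (χ : G → ℂ))
    (isGeneralizedCharacter_sum _ _ fun χ _ => by
      rw [Nat.cast_smul_eq_nsmul]; exact χ.2.isGeneralizedCharacter.nsmul _) fun y hy => by
      have := sum_mul_apply_eq_zero hA (not_dvd_orderOf_one hp.out) hy
      rw [sum_congr rfl fun χ hχ => by rw [hd χ (mem_filter.1 hχ).2, mul_left_comm, mul_comm _ (_ : ℂ)],
        ← sum_mul, mul_eq_zero] at this
      rw [Finset.sum_apply]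
      simpa only [Pi.smul_apply, smul_eq_mul, mul_comm] using
        this.resolve_right (Nat.cast_ne_zero.2 hg0)
  have h4 : ∀ i, g ∣ n i := fun i => by
    have := congrFun (h.inj (fun i => n i) (fun i => g * a i) fun χ => by
      simp only [mul_assoc, ← mul_sum, ← ha, ← hn]
      rw [← conj_classInner, classInner_sum_filter_smul, ← mul_one (e : ℂ[G]), ev_fblk_mul_ite,
        ev_one]
      split_ifs with hχ
      · rw [hd χ hχ, map_natCast]
      · simp) i
    exact Int.natCast_dvd_natCast.1 ⟨a i, by exact_mod_cast this⟩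
  let D : Fin r → ℕ := fun i => ∑ χ with χ ∈ B, Φ i χ * charDegree (χ : G → ℂ)
  have h5 : ∀ i, p ^ (Nat.card G).factorization p * u ∣ D i := fun i =>
    (((Nat.Prime.coprime_iff_not_dvd hp.out).2 hpu).pow_left _).mul_dvd_of_dvd_of_dvd
      (pow_dvd_of_sum_ev (ε := fblk B * (f i : ℂ[G])) (mul_mem hA (f i).2) (by
        simp only [D, ev_fblk_mul_ite, h.val, sum_filter]
        push_cast
        exact sum_congr rfl fun χ _ => by split_ifs <;> simp [χ.2.apply_one_eq]))
      (dvd_sum fun χ hχ => (hu.trans (hg χ (mem_filter.1 hχ).2)).mul_left _)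
  have h6 : ∀ i, D i = 0 → m i i = 0 := fun i hi => by
    have := congrFun (h.inj (fun k => m i k) 0 fun χ => by
      rw [← hm]
      split_ifs with hχ
      · have := sum_eq_zero_iff.1 hi χ (mem_filter.2 ⟨mem_univ _, hχ⟩)
        simp [(mul_eq_zero.1 this).resolve_right χ.2.charDegree_pos.ne']
      · simp) i
    exact Nat.cast_eq_zero.1 this
  choose c hc using h4
  choose x hx using h5
  refine ⟨∑ i, c i * x i, h1 ▸ sum_le_sum fun i _ => ?_, ?_⟩
  · rcases Nat.eq_zero_or_pos (m i i) with h0 | h0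
    · omega
    refine (h2 i).trans (Nat.mul_pos (Nat.pos_of_ne_zero fun e => ?_) (Nat.pos_of_ne_zero fun e => ?_))
    · have := h3 i
      rw [hc, e] at this
      omega
    · exact h0.ne' (h6 i (by rw [hx, e, mul_zero]))
  · have : ∑ χ with χ ∈ B, charDegree (χ : G → ℂ) ^ 2 = ∑ i, n i * D i := by
      simp only [D, mul_sum]
      rw [sum_comm]
      refine sum_congr rfl fun χ hχ => ?_
      have := hn' χ (mem_filter.1 hχ).2
      rw [χ.2.apply_one_eq] at this
      have h7 : charDegree (χ : G → ℂ) = ∑ i, n i * Φ i χ := by exact_mod_cast this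
      rw [sq]
      nth_rw 1 [h7]
      simp only [sum_mul, mul_assoc]
    rw [this, mul_sum]
    exact sum_congr rfl fun i _ => by rw [hc, hx]; ring

omit hp in
theorem regInner_comp_symm (τ : G ≃* G) (f g : G → ℂ) :
    regInner p (fun x => f (τ x)) g = regInner p f fun x => g (τ.symm x) := by
  rw [regInner_eq, regInner_eq]
  conv_rhs => rw [← Equiv.sum_comp τ.toEquiv]
  simp

open Classical in
theorem exists_sum_secRes_pow (hB : IsPBlock M B) {k : ℕ} (hk : k.Coprime (Nat.card G))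
    (h1 : ∀ g : G, ¬ p ∣ orderOf g → g ^ k = g) {x : G} (hx : ∃ k : ℕ, orderOf x = p ^ k) :
    ∃ N : ℕ, ∑ χ with χ ∈ B,
      regInner p (secRes x fun g => (χ : G → ℂ) (g ^ k)) (secRes x χ) = N := by
  have h2 : ∀ c : Subgroup.centralizer ({x} : Set G), ¬ p ∣ orderOf c →
      (x * c) ^ k = x ^ k * c := fun c hc => by
    rw [(commute_of_mem_centralizer c).mul_pow, h1 c (by rwa [Subgroup.orderOf_coe])]
  by_cases hc : IsConj x (x ^ k)
  swap
  · refine ⟨0, ?_⟩
    simp only [regInner_eq, ← mul_sum]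
    rw [sum_comm, sum_eq_zero fun c _ => ?_, mul_zero, Nat.cast_zero]
    split_ifs with h
    · simp
    refine sum_mul_conj_eq_zero hB.fblk_mem_SG ?_
    rw [pPart_pow, pPart_mul hp.out hx (by rwa [Subgroup.orderOf_coe])
      (commute_of_mem_centralizer c)]
    exact fun e => hc e.symm
  obtain ⟨h, hh⟩ := isConj_iff.1 hc
  obtain ⟨j, hj⟩ := exists_pow_eq_self_of_coprime (x := x)
    (hk.coprime_dvd_right (orderOf_dvd_natCard x))
  have hN : h⁻¹ ∈ Subgroup.normalizer (Subgroup.centralizer ({x} : Set G) : Set G) := fun c => by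
    simp only [SetLike.mem_coe, Subgroup.mem_centralizer_singleton_iff]
    refine Iff.trans (b := c * x ^ k = x ^ k * c)
      ⟨fun e => (Commute.pow_right e k).eq, fun e => hj ▸ (Commute.pow_right e j).eq⟩ ?_
    rw [← hh]
    constructor
    · intro e
      calc _ = h⁻¹ * (c * (h * x * h⁻¹)) * h := by group
        _ = _ := by rw [e]; group
    · intro e
      calc _ = h * (h⁻¹ * c * h⁻¹⁻¹ * x) * h⁻¹ := by group
        _ = _ := by rw [e]; group
  let τ := (Subgroup.centralizer ({x} : Set G)).normalizerMonoidHom ⟨h⁻¹, hN⟩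
  let A : Set (IrrCharacter (Subgroup.centralizer ({x} : Set G))) :=
    {ξ | IsInducedBlock M _ (blockOf M ξ.1) B}
  obtain ⟨N, hN⟩ := exists_sum_regInner_comp (M := M) (A := A)
    (fblk_mem_SG_of_closed fun ξ hξ ψ hψ => by
      change IsInducedBlock M _ _ B
      rwa [← (isPBlock_blockOf ξ).eq_blockOf hψ]) τ
  refine ⟨N, ?_⟩
  have h3 : ∀ χ ∈ B, regInner p (secRes x fun g => (χ : G → ℂ) (g ^ k)) (secRes x χ) =
      ∑ ξ with ξ ∈ A, regInner p ξ.1 (secRes x χ) *
        regInner p (secRes x χ) fun c => ξ.1 (τ.symm c) := fun χ hχ => by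
    have hc := isClassFunction_secRes x χ.2.isClassFunction
    rw [regInner_congr (φ' := fun c => secRes x χ (τ c)) (fun c hc => ?_) fun _ _ => rfl,
      regInner_eq_sum_irr (θ := fun c => secRes x χ (τ c)) (hc.comp τ.toMonoidHom), sum_filter]
    · refine sum_congr rfl fun ξ _ => ?_
      split_ifs with hξ
      · rw [mul_comm, ← regInner_comp_symm]
      · rw [regInner_eq_zero_comm.1 (regInner_secRes_eq_zero Modular.out hx hB hχ
          (isPBlock_blockOf ξ) hξ (mem_blockOf_self ξ)), mul_zero]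
    · rw [secRes_apply, secRes_apply, h2 c hc, ← hh, ← χ.2.isClassFunction _ h⁻¹]
      exact congrArg _ (show _ = x * (h⁻¹ * c * h⁻¹⁻¹) by group)
  rw [sum_congr rfl fun χ hχ => h3 χ (mem_filter.1 hχ).2, sum_comm, ← hN]
  refine sum_congr rfl fun ξ hξ => ?_
  rw [sum_regInner_secRes hx (mem_filter.1 hξ).2 (inSpan_of_mem (mem_blockOf_self ξ))
    ξ.2.isClassFunction, regInner_comp_symm]

theorem regInner_secRes_one [Fintype (Subgroup.centralizer ({1} : Set G))] {θ φ : G → ℂ}
    (hθ : IsClassFunction G θ) (hφ : IsClassFunction G φ) :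
    regInner p (secRes 1 θ) (secRes 1 φ) = regInner p θ φ := by
  rw [← classInner_secFun' hφ]
  refine congrArg (classInner · φ) (funext fun g => ?_)
  by_cases hg : p ∣ orderOf g
  · rw [pRegularPart_of_dvd _ hg, secFun_eq_zero hp.out pElt_one]
    rw [isConj_one_right]
    exact (pPart_ne_one_iff hp.out).2 hg
  · have := secFun_mul hp.out pElt_one (isClassFunction_secRes 1 hθ)
      (y := ⟨g, by simp [Subgroup.mem_centralizer_singleton_iff]⟩)
      (by rwa [← Subgroup.orderOf_coe])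
    rw [pRegularPart_of_not_dvd _ hg]
    simpa using this

open Classical in
/-- A Galois automorphism fixing the `p'`-roots of unity fixes at least `l(B)` members of `B`. -/
theorem blockRank_le_card_fixed (hB : IsPBlock M B) {k : ℕ} (hk : k.Coprime (Nat.card G))
    (h1 : ∀ g : G, ¬ p ∣ orderOf g → g ^ k = g) :
    blockRank p B ≤ #{χ : IrrCharacter G | χ ∈ B ∧ ∀ g, (χ : G → ℂ) (g ^ k) = (χ : G → ℂ) g} := by
  obtain ⟨X, hX, hX'⟩ := exists_pElt_reps p G
  choose! N hN using fun x hx => exists_sum_secRes_pow hB hk h1 (hX x hx)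
  obtain ⟨y, ⟨hy, e⟩, -⟩ := hX' 1 pElt_one
  obtain rfl : y = 1 := isConj_one_right.1 e
  have h2 : N 1 = blockRank p B := by
    apply Nat.cast_injective (R := ℂ)
    rw [← hN 1 hy, blockRank_eq_sum hB]
    refine sum_congr rfl fun χ _ => ?_
    rw [regInner_secRes_one (χ.2.isClassFunction.comp_pow k) χ.2.isClassFunction]
    exact regInner_congr (fun g hg => by rw [h1 g hg]) fun _ _ => rfl
  refine h2.symm.trans_le ((single_le_sum (fun _ _ => Nat.zero_le _) hy).trans_eq ?_)
  apply Nat.cast_injective (R := ℂ)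
  rw [Nat.cast_sum, ← sum_congr rfl hN, sum_comm, ← filter_filter, card_filter, Nat.cast_sum]
  refine sum_congr rfl fun χ _ => ?_
  rw [← classInner_eq_sum_regInner X hX hX' (χ.2.isClassFunction.comp_pow k) χ.2.isClassFunction]
  refine (irr_inner_eq_ite ⟨_, χ.2.comp_pow hk⟩ χ).trans ?_
  simp [Subtype.ext_iff, funext_iff]

end Cfsg.Lib.Block
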