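import Cfsg.Agent.Lib.Block.Local
import Mathlib.RingTheory.Polynomial.Cyclotomic.Basic
import Mathlib.RingTheory.RootsOfUnity.Complex

/-!
# Lifting roots of unity of order prime to `p` from the residue field
-/

set_option autoImplicit false
set_option linter.unusedSectionVars false

namespace Cfsg.Lib.Block

open Cfsg Polynomial

variable {p : ℕ} {M : Ideal AlgInt} [hM : Modular p M] {z w : ℂ} {m n : ℕ}

omit hM in
theorem ne_zero_of_not_dvd (hm : ¬ p ∣ m) : m ≠ 0 := fun h => hm (h ▸ dvd_zero p)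

theorem eq_one_of_red_eq_one (hm : ¬ p ∣ m) (hz : z ^ m = 1) (h : red M z = 1) : z = 1 := by
  by_contra h1
  have h2 := mem_locRing_of_pow_eq_one (M := M) (ne_zero_of_not_dvd hm) hz
  have h3 : ∑ i ∈ Finset.range m, z ^ i = 0 := by rw [geom_sum_eq h1, hz, sub_self, zero_div]
  have h4 := congrArg (red M) h3
  rw [red_sum _ _ fun i _ => pow_mem h2 i] at h4
  simp only [red_pow h2, h, one_pow, Finset.sum_const, Finset.card_range, nsmul_eq_mul, mul_one,
    red_zero] at h4
  exact hm ((CharP.cast_eq_zero_iff _ p m).1 h4)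

theorem red_ne_zero_of_pow_eq_one (hm : m ≠ 0) (hz : z ^ m = 1) : red M z ≠ 0 := fun h => by
  have := red_pow (mem_locRing_of_pow_eq_one (M := M) hm hz) m
  rw [hz, h, red_one, zero_pow hm] at this
  exact one_ne_zero this

theorem eq_of_red_eq (hm : ¬ p ∣ m) (hn : ¬ p ∣ n) (hz : z ^ m = 1) (hw : w ^ n = 1)
    (h : red M z = red M w) : z = w := by
  have h1 := red_ne_zero_of_pow_eq_one (M := M) (ne_zero_of_not_dvd hn) hw
  refine (div_eq_one_iff_eq (ne_zero_of_red_ne_zero h1)).1 (eq_one_of_red_eq_one (M := M)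
    (m := m * n) (fun h => ((Modular.prime M).dvd_mul.1 h).elim hm hn) ?_ ?_)
  · rw [div_pow, pow_mul, hz, mul_comm, pow_mul, hw, one_pow, one_pow, div_one]
  · rw [red_div (mem_locRing_of_pow_eq_one (ne_zero_of_not_dvd hm) hz) h1, h, div_self h1]

theorem exists_root_red_eq (hm : m ≠ 0) {c : Res M} (hc : c ^ m = 1) :
    ∃ z : ℂ, z ^ m = 1 ∧ red M z = c := by
  have h1 := (Complex.isPrimitiveRoot_exp m hm).pow_sub_pow_eq_prod_sub_mul (lift M c) 1
    (Nat.pos_of_ne_zero hm)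
  have h2 : ∀ z ∈ nthRootsFinset m (1 : ℂ), z ∈ locRing M := fun z hz =>
    mem_locRing_of_pow_eq_one hm ((mem_nthRootsFinset (Nat.pos_of_ne_zero hm) _).1 hz)
  have h3 := congrArg (red M) h1
  simp only [mul_one, one_pow] at h3
  rw [red_sub (pow_mem (lift_mem c) m) (one_mem _), red_pow (lift_mem c), red_lift, hc, red_one,
    sub_self, red_prod _ _ fun z hz => sub_mem (lift_mem c) (h2 z hz)] at h3
  obtain ⟨z, hz, h4⟩ := Finset.prod_eq_zero_iff.1 h3.symm
  rw [red_sub (lift_mem c) (h2 z hz), red_lift, sub_eq_zero] at h4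
  exact ⟨z, (mem_nthRootsFinset (Nat.pos_of_ne_zero hm) _).1 hz, h4.symm⟩

theorem pow_ordCompl_eq_one {c : Res M} (hc : c ^ n = 1) : c ^ ordCompl[p] n = 1 := by
  have : Fact p.Prime := ⟨Modular.prime M⟩
  rwa [← Nat.ordProj_mul_ordCompl_eq_self n p, ExpChar.pow_prime_pow_mul_eq_one_iff] at hc

theorem exists_red_pow_eq_one (a : AlgInt) (h : red M (a : ℂ) ≠ 0) :
    ∃ m, ¬ p ∣ m ∧ red M (a : ℂ) ^ m = 1 := by
  have hp := Modular.prime M
  have : Fact p.Prime := ⟨hp⟩
  let _ : Algebra (ZMod p) (Res M) := ZMod.algebra _ p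
  have h1 : IsIntegral ℤ (⟨a, coe_mem_locRing a⟩ : locRing M) :=
    (isIntegral_algHom_iff (locRing M).subtype.toIntAlgHom Subtype.val_injective).1 a.2
  have h2 : IsIntegral (ZMod p) (red M (a : ℂ)) := by
    rw [red_of_mem (coe_mem_locRing a)]
    obtain ⟨P, hP, h⟩ := h1
    refine ⟨P.map (Int.castRingHom (ZMod p)), hP.map _, ?_⟩
    have h3 := congrArg (IsLocalRing.residue (locRing M)) h
    rw [hom_eval₂, map_zero] at h3
    rw [eval₂_map, RingHom.ext_int ((algebraMap (ZMod p) (Res M)).comp (Int.castRingHom (ZMod p)))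
      ((IsLocalRing.residue (locRing M)).comp (algebraMap ℤ (locRing M)))]
    exact h3
  have := IntermediateField.adjoin.finiteDimensional h2
  have : Finite (IntermediateField.adjoin (ZMod p) {red M (a : ℂ)}) :=
    Module.finite_of_finite (ZMod p)
  let u := Units.mk0 (IntermediateField.AdjoinSimple.gen (ZMod p) (red M (a : ℂ)))
    fun h0 => h (congrArg Subtype.val h0)
  have h3 : red M (a : ℂ) ^ orderOf u = 1 :=
    congrArg (fun x : (IntermediateField.adjoin (ZMod p) {red M (a : ℂ)})ˣ =>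
      (x.1 : Res M)) (pow_orderOf_eq_one u)
  exact ⟨_, Nat.not_dvd_ordCompl hp (orderOf_pos u).ne', pow_ordCompl_eq_one h3⟩

theorem exists_hom_lift {G : Type*} [Group G] [Finite G] (μ : G →* Res M) :
    ∃ l : G →* ℂˣ, ∀ g, red M (l g) = μ g ∧ (l g : ℂ) ^ ordCompl[p] (Nat.card G) = 1 := by
  have hm := Nat.not_dvd_ordCompl (Modular.prime M) (Nat.card_pos (α := G)).ne'
  have h0 := ne_zero_of_not_dvd hm
  choose f h1 h2 using fun g => exists_root_red_eq (M := M) h0 (c := μ g)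
    (pow_ordCompl_eq_one (by rw [← map_pow, pow_card_eq_one', map_one]))
  refine ⟨MonoidHom.toHomUnits (MonoidHom.mk ⟨f, ?_⟩ fun x y => ?_), fun g => ⟨h2 g, h1 g⟩⟩
  · exact eq_one_of_red_eq_one (M := M) hm (h1 1) (by rw [h2, map_one])
  · refine eq_of_red_eq (M := M) hm hm (h1 _) (by simp only [mul_pow, h1, mul_one]) ?_
    simp only [red_mul (mem_locRing_of_pow_eq_one h0 (h1 x)) (mem_locRing_of_pow_eq_one h0 (h1 y)),
      h2, map_mul]

end Cfsg.Lib.Block
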