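import Cfsg.Agent.Lib.Block.Dade
import Cfsg.Agent.Lib.Block.Roots
import Cfsg.Agent.Lib.Block.Constr

/-!
# Extensions of characters of the principal block of a normal subgroup
-/

set_option autoImplicit false
set_option linter.unusedSectionVars false
set_option linter.dupNamespace false

namespace Cfsg.Lib.Block

open _root_.Cfsg.Lib.Block MonoidAlgebra Cfsg.Lib.Char Cfsg.Lib.Modular Cfsg.Lib.Transfer Subgroup
open Cfsg.Lib.Clifford Cfsg.Lib.Induce Polynomial

variable {G : Type*} [Group G] [Finite G] {K H N Q J : Subgroup G} {χ : G → ℂ} {a : ℂ[G]}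

section Schur

theorem ev_character {V : Type*} [AddCommGroup V] [Module ℂ V] (ρ : Representation ℂ G V)
    (a : ℂ[G]) : ev ρ.character a = LinearMap.trace ℂ V (ρ.asAlgebraHom a) := by
  induction a using induction_linear with
  | zero => simp
  | add a b ha hb => simp [ha, hb]
  | single h c => rw [ev_single, Representation.asAlgebraHom_single, map_smul]; rfl

/-- An element centralizing `K` acts as a scalar when the restriction to `K` is irreducible. -/
theorem ev_mul_of_res (hχ : IsCharacter G χ) (hK : IsIrrCharacter K fun k : K => χ k)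
    (ha : a ∈ fix ℂ K) (b : ℂ[G]) : ev χ (a * b) = omega χ a * ev χ b := by
  have h1 : χ 1 ≠ 0 := hK.apply_one_ne_zero
  obtain ⟨n, ρ, rfl⟩ := hχ
  have : Representation.IsIrreducible (ρ.comp K.subtype : Representation ℂ K _) :=
    (isIrrCharacter_character_iff _).1 hK
  obtain ⟨c, hc⟩ := exists_eq_smul_of_commute (ρ.comp K.subtype) (ρ.asAlgebraHom a) fun k => by
    have := congrArg ρ.asAlgebraHom (commute_of_supp_of_fix (of_mem_supp k.2) ha).eq
    rw [map_mul, map_mul, Representation.asAlgebraHom_of] at this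
    exact this.symm
  have h2 : ∀ b, ev ρ.character (a * b) = c * ev ρ.character b := fun b => by
    rw [ev_character, ev_character, map_mul, hc, smul_mul_assoc, map_smul]; rfl
  have h3 := h2 1
  rw [mul_one, ev_one] at h3
  rw [h2, omega_apply, h3, mul_div_cancel_right₀ _ h1]

theorem omega_mul_of_res (hχ : IsCharacter G χ) (hK : IsIrrCharacter K fun k : K => χ k)
    (ha : a ∈ fix ℂ K) (b : ℂ[G]) : omega χ (a * b) = omega χ a * omega χ b := by
  rw [omega_apply χ (a * b), ev_mul_of_res hχ hK ha, omega_apply χ b, mul_div_assoc]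

theorem isIntegral_omega_of_res (hχ : IsCharacter G χ) (hK : IsIrrCharacter K fun k : K => χ k)
    (ha : a ∈ fix ℂ K) (h : IsIntegral ℤ a) : IsIntegral ℤ (omega χ a) := by
  have h1 : ∀ n, omega χ (a ^ n) = omega χ a ^ n := fun n => by
    induction n with
    | zero => simpa using omega_one (χ := χ) hK.apply_one_ne_zero
    | succ n ih => rw [pow_succ', omega_mul_of_res hχ hK ha, ih, pow_succ']
  obtain ⟨P, hP, hP'⟩ := h
  refine ⟨P, hP, ?_⟩
  rw [← aeval_def, aeval_eq_sum_range] at hP' ⊢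
  rw [← map_zero (omega χ), ← hP', map_sum]
  exact Finset.sum_congr rfl fun i _ => by rw [map_zsmul, h1]

theorem isIntegral_sum_of {ι : Type*} (s : Finset ι) (f : ι → G) :
    IsIntegral ℤ (∑ i ∈ s, of ℂ G (f i)) := by
  have h1 : IsIntegral ℤ (∑ i ∈ s, of ℤ G (f i)) := Algebra.IsIntegral.isIntegral _
  have h2 := h1.map (mapAlgHom G (Algebra.ofId ℤ ℂ))
  simpa using h2

end Schur

section Rel
variable {M : Ideal AlgInt} [M.IsPrime]

theorem aug_redA (ha : a ∈ SG G M) : aug (redA M a) = red M (aug a) := by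
  have := Fintype.ofFinite G
  rw [aug_apply, aug_apply, red_sum _ _ fun g _ => ha g]; rfl

theorem aug_mem (ha : a ∈ SG G M) : aug a ∈ locRing M := by
  have := Fintype.ofFinite G
  rw [aug_apply]; exact sum_mem fun g _ => ha g

variable (M N χ) in
/-- The central character of `χ` on the centralizer of `N` reduces to the augmentation. -/
def RelPrin : Prop :=
  ∀ a ∈ fix ℂ N, a ∈ SG G M → omega χ a ∈ locRing M ∧ red M (omega χ a) = red M (aug a)

theorem RelPrin.mem_principal (h : RelPrin N χ M) (hJ : N ≤ J) {ξ : IrrCharacter J}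
    (hξ : ∀ y : J, (ξ : J → ℂ) y = χ y) : ξ ∈ principalBlock M J := by
  refine sameBlock_of_lam_eq (irrOne J).2 ξ.2 fun b hb => (lam_irrOne hb).trans ?_
  have h1 := liftA_mem_SG (M := M) b
  rw [lam_eq_red_omega_liftA ξ.2 hb, funext hξ]
  refine Eq.symm ((congrArg (red M) (omega_emb χ J.subtype _).symm).trans ?_)
  rw [(h _ (fix_anti hJ (emb_subtype_mem_cen J (liftA_mem_fix hb)).1) (emb_mem_SG _ h1)).2,
    aug_emb, ← aug_redA h1, redA_liftA]

theorem RelPrin.mem_principal_top {ξ : IrrCharacter G} (h : RelPrin N (ξ : G → ℂ) M) :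
    ξ ∈ principalBlock M G := by
  refine sameBlock_of_lam_eq (irrOne G).2 ξ.2 fun b hb => (lam_irrOne hb).trans ?_
  have h1 := liftA_mem_SG (M := M) b
  rw [lam_eq_red_omega_liftA ξ.2 hb,
    (h _ (mem_fix_of_top (liftA_mem_fix hb)) h1).2, ← aug_redA h1, redA_liftA]

variable [hN : N.Normal]

theorem omega_hom_mul_cmp {l : G →* ℂˣ} (hl : ∀ n ∈ N, l n = 1) (χ : G → ℂ) (g : G) (a : ℂ[G]) :
    omega (fun g => l g * χ g) (cmp N (g : G ⧸ N) a) = l g * omega χ (cmp N (g : G ⧸ N) a) := by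
  classical
  rw [omega_apply, omega_apply, ← mul_div_assoc, ← ev_smul_left, map_one, Units.val_one, one_mul]
  congr 1
  refine ev_congr fun x hx => ?_
  rw [coeff_cmp] at hx
  have h := hl _ (QuotientGroup.eq.1 (of_not_not fun h => hx (if_neg h)))
  rw [map_mul, map_inv, inv_mul_eq_one] at h
  rw [h]; rfl

theorem relPrin_of_cmp (h : ∀ a ∈ fix ℂ N, a ∈ SG G M → ∀ g : G, cmp N (g : G ⧸ N) a = a →
    omega χ a ∈ locRing M ∧ red M (omega χ a) = red M (aug a)) : RelPrin N χ M := fun a ha ha' => by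
  have := Fintype.ofFinite (G ⧸ N)
  have h0 : ∀ u, cmp N u a ∈ SG G M := fun u => trunc_mem_SG _ ha'
  have h1 := fun u : G ⧸ N => h _ (cmp_mem_fix N u ha) (h0 u) u.out (by
    rw [QuotientGroup.out_eq', cmp_cmp])
  rw [← sum_cmp N a, map_sum, map_sum, red_sum _ _ fun u _ => (h1 u).1,
    red_sum _ _ fun u _ => aug_mem (h0 u)]
  exact ⟨sum_mem fun u _ => (h1 u).1, Finset.sum_congr rfl fun u _ => (h1 u).2⟩

theorem RelPrin.hom_mul (h : RelPrin N χ M) {l : G →* ℂˣ} (hl : ∀ n ∈ N, l n = 1)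
    (hl' : ∀ g, red M (l g) = 1) : RelPrin N (fun g => l g * χ g) M :=
  relPrin_of_cmp fun a ha ha' g e => by
    have h1 : (l g : ℂ) ∈ locRing M := mem_locRing_of_red_ne_zero (hl' g ▸ one_ne_zero)
    rw [← e, omega_hom_mul_cmp hl, e, red_mul h1 (h a ha ha').1, hl', one_mul]
    exact ⟨mul_mem h1 (h a ha ha').1, (h a ha ha').2⟩

theorem cmp_rtr_of (T : Subgroup G) (c : G) :
    cmp N (c : G ⧸ N) (rtr N T (of ℂ G c)) = rtr N T (of ℂ G c) := by
  classical
  have := Fintype.ofFinite (N ⧸ T.subgroupOf N)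
  rw [rtr_eq_sum, map_sum]
  refine Finset.sum_congr rfl fun q _ => trunc_eq_self_iff.2 fun g hg => ?_
  rw [of_apply, cj_single, coeff_single', if_neg]
  rintro rfl
  refine hg ?_
  simp [(QuotientGroup.eq_one_iff _).2 q.out.2]

omit hN in
theorem aug_rtr_of (T : Subgroup G) (c : G) : aug (rtr N T (of ℂ G c)) = T.relIndex N := by
  have := Fintype.ofFinite (N ⧸ T.subgroupOf N)
  simp [rtr_eq_sum, aug_cj, relIndex, index]

omit hN in
theorem isIntegral_rtr_of (T : Subgroup G) (c : G) : IsIntegral ℤ (rtr N T (of ℂ G c)) := by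
  have := Fintype.ofFinite (N ⧸ T.subgroupOf N)
  simpa only [rtr_eq_sum, of_apply, cj_single] using isIntegral_sum_of Finset.univ
    fun q : N ⧸ T.subgroupOf N => (q.out : G) * c * (q.out : G)⁻¹

omit hN in
theorem rtr_of_mem_fix {c : G} (hc : c ∈ centralizer (Q : Set G)) :
    rtr N Q (of ℂ G c) ∈ fix ℂ N :=
  rtr_mem_fix (fix_anti inf_le_right (mem_fix_of_supp_centralizer (of_mem_supp hc)))

omit hN in
theorem omega_rtr_of (hχ : IsClassFunction G χ) (T : Subgroup G) (c : G) :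
    omega χ (rtr N T (of ℂ G c)) = T.relIndex N * (χ c / χ 1) := by
  have := Fintype.ofFinite (N ⧸ T.subgroupOf N)
  simp [rtr_eq_sum, omega_cj hχ, ← omega_of, relIndex, index]

omit hN in
theorem red_omega_of_cen {θ : IrrCharacter N} (hθ : θ ∈ principalBlock M N)
    (h : ∀ n : N, χ n = (θ : N → ℂ) n) (ha : a ∈ cen ℂ N) (ha' : a ∈ SG G M) :
    omega χ a ∈ locRing M ∧ red M (omega χ a) = red M (aug a) := by
  have h1 := res_subtype_mem_fix_top N ha.1
  have h2 := res_mem_SG N.subtype ha'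
  rw [← emb_res_of_mem_cen ha, omega_emb, aug_emb, ← aug_redA h2, ← lam_eq_aug hθ (redA_mem_fix h1),
    lam_redA θ.2 h1 h2, show (fun n => χ (N.subtype n)) = θ from funext h]
  exact ⟨omega_mem θ.2 h1 h2, rfl⟩

end Rel

variable {p : ℕ} [hp : Fact p.Prime] {M : Ideal AlgInt} [Modular p M] [hN : N.Normal]

/-- **Dade, Murai.** If `G = N C_G(Q)` for a subgroup `Q` of index prime to `p` in `N`, an
extension of a character of the principal block of `N` can be twisted into one that is principal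
relative to `N`. -/
theorem exists_relPrin (hQ : ¬ p ∣ Q.relIndex N) (h : N ⊔ centralizer (Q : Set G) = ⊤)
    {θ : IrrCharacter N} (hθ : θ ∈ principalBlock M N) (hχ : IsCharacter G χ)
    (hχθ : ∀ n : N, χ n = (θ : N → ℂ) n) : ∃ l : G →* ℂˣ, (∀ n ∈ N, l n = 1) ∧
      (∀ g, (l g : ℂ) ^ ordCompl[p] (Nat.card G) = 1) ∧ RelPrin N (fun g => l g * χ g) M := by
  have hK : IsIrrCharacter N fun n : N => χ n := funext hχθ ▸ θ.2
  have hi : red M (Q.relIndex N) ≠ 0 := by rwa [Ne, red_natCast_eq_zero_iff]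
  have hc : ∀ u : G ⧸ N, ∃ c ∈ centralizer (Q : Set G), (c : G ⧸ N) = u := fun u => by
    obtain ⟨x, hx, n, hn, e⟩ := exists_mul_of_mem_sup' (N := N)
      ((normalizer_eq_top N).symm ▸ le_top) (h ▸ mem_top u.out)
    exact ⟨x, hx, by rw [← QuotientGroup.mk_mul_of_mem x hn, ← e, QuotientGroup.out_eq']⟩
  have hw : ∀ u : G ⧸ N, ∃ w ∈ fix ℂ N, w ∈ SG G M ∧ cmp N u w = w ∧ red M (aug w) ≠ 0 ∧
      omega χ w ∈ locRing M := fun u => by
    obtain ⟨c, hc, rfl⟩ := hc u
    exact ⟨_, rtr_of_mem_fix hc, rtr_mem_SG (of_mem_SG c), cmp_rtr_of Q c, by rwa [aug_rtr_of],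
      mem_locRing_of_isIntegral (isIntegral_omega_of_res hχ hK (rtr_of_mem_fix hc)
        (isIntegral_rtr_of Q c))⟩
  choose w w1 w2 w3 w4 w5 using hw
  have key : ∀ u, ∀ a ∈ fix ℂ N, a ∈ SG G M → cmp N u a = a →
      omega χ a * omega χ (w u⁻¹) ∈ locRing M ∧
        red M (omega χ a * omega χ (w u⁻¹)) = red M (aug a) * red M (aug (w u⁻¹)) :=
    fun u a ha ha' e => by
      rw [← omega_mul_of_res hχ hK ha, ← red_mul (aug_mem ha') (aug_mem (w2 _)), ← map_mul]
      refine red_omega_of_cen hθ hχθ ?_ (mul_mem ha' (w2 _))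
      rw [← e, ← w3 u⁻¹]
      exact cmp_mul_cmp_mem_cen (mul_inv_cancel u) ha (w1 _)
  have w6 : ∀ u, red M (omega χ (w u)) ≠ 0 := fun u h0 => by
    have := (key u _ (w1 u) (w2 u) (w3 u)).2
    rw [red_mul (w5 _) (w5 _), h0, zero_mul] at this
    exact mul_ne_zero (w4 _) (w4 _) this.symm
  let ν : G ⧸ N → Res M := fun u => red M (omega χ (w u⁻¹)) / red M (aug (w u⁻¹))
  have hν : ∀ u, ∀ a ∈ fix ℂ N, a ∈ SG G M → cmp N u a = a →
      omega χ a ∈ locRing M ∧ ν u * red M (omega χ a) = red M (aug a) := fun u a ha ha' e => by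
    obtain ⟨h1, h2⟩ := key u a ha ha' e
    have h3 : omega χ a ∈ locRing M := by
      simpa [ne_zero_of_red_ne_zero (w6 u⁻¹)] using div_mem_of_red_ne_zero h1 (w6 u⁻¹)
    rw [red_mul h3 (w5 _)] at h2
    refine ⟨h3, ?_⟩
    rw [div_mul_eq_mul_div, div_eq_iff (w4 _), ← h2, mul_comm]
  have h1 : ν 1 = 1 := by
    have := (hν 1 1 (one_mem _) (one_mem _) (by rw [cmp_one, trunc_one (one_mem N)])).2
    rwa [omega_one (χ := χ) hK.apply_one_ne_zero, map_one, red_one, mul_one] at this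
  have h2 : ∀ u v, ν (u * v) = ν u * ν v := fun u v => by
    have := (hν (u * v) _ (mul_mem (w1 u) (w1 v)) (mul_mem (w2 u) (w2 v)) (by
      conv_rhs => rw [← w3 u, ← w3 v, cmp_mul_cmp, w3 u])).2
    rw [omega_mul_of_res hχ hK (w1 u), map_mul, red_mul (w5 u) (w5 v),
      red_mul (aug_mem (w2 u)) (aug_mem (w2 v)), ← (hν u _ (w1 u) (w2 u) (w3 u)).2,
      ← (hν v _ (w1 v) (w2 v) (w3 v)).2] at this
    exact mul_right_cancel₀ (mul_ne_zero (w6 u) (w6 v)) (by linear_combination this)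
  obtain ⟨l, hl⟩ := exists_hom_lift (M := M)
    ((⟨⟨ν, h1⟩, h2⟩ : G ⧸ N →* Res M).comp (QuotientGroup.mk' N))
  have h3 : ∀ n ∈ N, l n = 1 := fun n hn => Units.ext (eq_one_of_red_eq_one (M := M)
    (Nat.not_dvd_ordCompl hp.out Nat.card_pos.ne') (hl n).2 (by
      rw [(hl n).1, MonoidHom.comp_apply, QuotientGroup.mk'_apply,
        (QuotientGroup.eq_one_iff n).2 hn, map_one]))
  refine ⟨l, h3, fun g => (hl g).2, relPrin_of_cmp fun a ha ha' g e => ?_⟩
  have h4 : (l g : ℂ) ∈ locRing M := char_mem (isCharacter_hom l) g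
  obtain ⟨h5, h6⟩ := hν g a ha ha' e
  rw [← e, omega_hom_mul_cmp h3, e, red_mul h4 h5, (hl g).1]
  exact ⟨mul_mem h4 h5, h6⟩

omit hN in
theorem RelPrin.red_div (h : RelPrin N χ M) (hχ : IsClassFunction G χ) (hQ : ¬ p ∣ Q.relIndex N)
    {c : G} (hc : c ∈ centralizer (Q : Set G)) : red M (χ c / χ 1) = 1 := by
  have hi : red M (Q.relIndex N) ≠ 0 := by rwa [Ne, red_natCast_eq_zero_iff]
  obtain ⟨h1, h2⟩ := h _ (rtr_of_mem_fix hc) (rtr_mem_SG (of_mem_SG c))
  rw [aug_rtr_of] at h2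
  rw [← mul_div_cancel_left₀ (χ c / χ 1) (ne_zero_of_red_ne_zero hi), ← omega_rtr_of hχ,
    Block.red_div h1 hi, h2, div_self hi]

omit [Modular p M] in
theorem normal_sup_centralizer (hQN : Q ≤ N) (hQ : IsPGroup p Q) (hi : ¬ p ∣ Q.relIndex N) :
    (N ⊔ centralizer (Q : Set G)).Normal := by
  refine normalizer_eq_top_iff.1 (eq_top_iff.2 fun g _ => ?_)
  obtain ⟨n, hn, h⟩ := frattini_argument hQN hQ hi le_normalizer_top (mem_top g)
  rw [← mul_mem_cancel_left (le_normalizer (mem_sup_left hn)), ← conj_eq_self_iff, conj_sup,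
    conj_eq_self_of_normal, conj_centralizer, conj_eq_self_iff.2 h]

theorem Over.mem_principal_of_centralizer (hQN : Q ≤ N) (hQ : IsPGroup p Q)
    (hi : ¬ p ∣ Q.relIndex N) (hc : ∀ x ∈ centralizer (Q : Set G), ¬ p ∣ orderOf x → x ∈ N)
    {χ : IrrCharacter G} {θ : IrrCharacter N} (h : Over N.subtype (χ : G → ℂ) {θ})
    (hθ : θ ∈ principalBlock M N) : χ ∈ principalBlock M G := by
  have h1 : IsDefIn p N (e0 N M) Q := ⟨hQN, hQ, by rw [br_e0 hQ hQN]; exact isBlkIdem_e0.ne_zero,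
    fun R h1 h2 h3 => (h3.ne (eq_of_not_dvd_relIndex_of_le hi h2 h1 h3.le)).elim⟩
  have h2 := (isBlkIdem_e0.of_br le_top le_normalizer_top (e0_mem_fix le_normalizer_top) h1
    fun x hx => hc x hx.2).eq_e0_iff.2 (by rw [aug_e0]; exact one_ne_zero)
  rw [(covers_principal _).eq_of_supp (h.covers (mem_blockOf_self χ) hθ) isPBlock_principalBlock
    (isPBlock_blockOf χ) isPBlock_principalBlock (by rw [← e0_top, ← h2]; exact
      isBlkIdem_e0.mem_cen.2)]
  exact mem_blockOf_self χ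

omit hp in
theorem Over.mem_principal_below (M : Ideal AlgInt) [M.IsPrime] {χ : IrrCharacter G} {θ : IrrCharacter N}
    (h : Over N.subtype (χ : G → ℂ) {θ}) (hχ : χ ∈ principalBlock M G) :
    θ ∈ principalBlock M N := by
  obtain ⟨g, hg⟩ := (h.covers hχ (mem_blockOf_self θ)).exists_cjSet_eq (covers_principal _)
    isPBlock_principalBlock (isPBlock_blockOf θ) isPBlock_principalBlock
  have h1 := conj_eq_self_of_normal g N
  rw [(isPBlock_blockOf θ).cjSet_eq_iff h1 isPBlock_principalBlock, ← e0, ← cj_e0 h1,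
    (cj g).injective.eq_iff, ← (isPBlock_blockOf θ).eq_principal_iff_ebl] at hg
  exact hg ▸ mem_blockOf_self θ

omit hN in
theorem mem_principal_iff_ev {χ : IrrCharacter G} :
    χ ∈ principalBlock M G ↔ ev (χ : G → ℂ) (zreg p fun _ => 1) ≠ 0 :=
  ⟨fun h => isPBlock_principalBlock.ev_zreg_ne_zero (χ := irrOne G) irrOne_mem_principalBlock
    (blockHeight_of_degree_one rfl) h, fun h => sameBlock_of_ev_zreg_ne_zero (χ := irrOne G) h⟩

omit hN in
theorem comp_pow_mem_principal (M : Ideal AlgInt) [Modular p M] {χ : IrrCharacter G} (h : χ ∈ principalBlock M G) {k : ℕ}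
    (hk : k.Coprime (Nat.card G)) : ⟨_, χ.2.comp_pow hk⟩ ∈ principalBlock M G := by
  have := Fintype.ofFinite G
  rw [mem_principal_iff_ev, ev_zreg] at h ⊢
  rw [← (powCoprime hk.symm).sum_comp] at h
  refine fun h0 => h (Eq.trans (Finset.sum_congr rfl fun g _ => ?_) h0)
  rw [powCoprime_apply, (hk.symm.coprime_dvd_left (orderOf_dvd_natCard g)).orderOf_pow]

omit hN [Modular p M] hp in
theorem sup_centralizer_subgroupOf [N.Normal] (hNK : N ≤ K)
    (h : K ≤ N ⊔ centralizer (Q : Set G)) :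
    N.subgroupOf K ⊔ centralizer ((Q.subgroupOf K : Subgroup K) : Set K) = ⊤ := by
  refine eq_top_iff.2 fun x _ => ?_
  obtain ⟨n, hn, c, hc, e⟩ := exists_mul_of_mem_sup (le_top.trans le_normalizer_top) (h x.2)
  have h1 : c ∈ K := (K.mul_mem_cancel_left (hNK hn)).1 (e ▸ x.2)
  rw [show x = ⟨n, hNK hn⟩ * ⟨c, h1⟩ from Subtype.ext e]
  exact mul_mem_sup hn fun y hy => Subtype.ext (hc y hy)

/-- **Alperin–Dade**, for a subgroup. -/
theorem exists_extension_principal_le (hNK : N ≤ K) (hQN : Q ≤ N) (hQ : IsPGroup p Q)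
    (hi : ¬ p ∣ Q.relIndex N) (hi' : ¬ p ∣ N.relIndex K) (h : K ≤ N ⊔ centralizer (Q : Set G))
    {θ : IrrCharacter N} (hθ : θ ∈ principalBlock M N) :
    ∃ η ∈ principalBlock M K, ∀ n : N, (η : K → ℂ) ⟨n, hNK n.2⟩ = (θ : N → ℂ) n := by
  obtain ⟨P, hP⟩ := exists_sylow_of_not_dvd_relIndex (H := K) hQ fun h =>
    ((hp.out.dvd_mul).1 (relIndex_mul_relIndex Q N K hQN hNK ▸ h)).elim hi hi'
  obtain ⟨η, h1, h2, -⟩ := exists_extension_principal (M := M) hi' P
    (hP ▸ sup_centralizer_subgroupOf hNK h) (θ := irrEquiv (subgroupOfEquivOfLe hNK) θ)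
    (by rwa [← preimage_irrEquiv_principalBlock (subgroupOfEquivOfLe hNK)] at hθ)
  exact ⟨η, h1, fun n => h2 ⟨⟨n, hNK n.2⟩, n.2⟩⟩

end Cfsg.Lib.Block
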