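import Cfsg.Agent.Lib.Block.MinDim
import Cfsg.Agent.Lib.Cyc.Simple
import Cfsg.Agent.Lib.Char.DefectZero

/-!
# Lifting of idempotents and projective characters

Idempotents lift from `k G / J` to `𝒪 G`; the functions `χ ↦ χ(f i)` of lifts `f i` of primitive
idempotents are a `ℤ`-basis of the generalized characters vanishing on the `p`-singular elements.
-/

set_option autoImplicit false
set_option linter.unusedSectionVars false
set_option linter.dupNamespace false

namespace Cfsg.Lib.Block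

open _root_.Cfsg.Lib.Block MonoidAlgebra Cfsg.Lib.Char Cfsg.Lib.Modular Cfsg.Lib.Transfer Subgroup
  Cfsg.Lib.Induce Cfsg.Lib.Clifford Polynomial Module

section Ring
variable {A R : Type*} [Ring A] [Ring R] {ρ : A →+* R} {ε ε' : A}

/-- A surjection of rings which detects units and along which idempotents lift. -/
structure SemiPerf (ρ : A →+* R) : Prop where
  surj : Function.Surjective ρ
  unit : ∀ w, ρ w = 1 → IsUnit w
  lift : ∀ a, ρ a * ρ a = ρ a → ∃ b, a * b = b * a ∧ a * b * (a * b) = a * b ∧ ρ (a * b) = ρ a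

namespace SemiPerf
variable (h : SemiPerf ρ)
include h

theorem eq_zero (idem : ε * ε = ε) (h0 : ρ ε = 0) : ε = 0 :=
  (h.unit (1 - ε) (by rw [map_sub, map_one, h0, sub_zero])).mul_right_eq_zero.1
    (by rw [sub_mul, one_mul, idem, sub_self])

theorem exists_le (idem : ε * ε = ε) {T : R} (hT : T * T = T) (h1 : ρ ε * T = T)
    (h2 : T * ρ ε = T) : ∃ f, f * f = f ∧ ρ f = T ∧ ε * f = f ∧ f * ε = f := by
  obtain ⟨a, rfl⟩ := h.surj T
  have e : ρ (ε * a * ε) = ρ a := by rw [map_mul, map_mul, h1, h2]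
  obtain ⟨b, hb, h3, h4⟩ := h.lift (ε * a * ε) (by rw [e, hT])
  refine ⟨_, h3, h4.trans e, ?_, ?_⟩
  · simp only [← mul_assoc, idem]
  · rw [hb]; simp only [mul_assoc, idem]

theorem exists_equiv (idem : ε * ε = ε) (idem' : ε' * ε' = ε') {X Y : R} (h1 : X * Y = ρ ε)
    (h2 : Y * X = ρ ε') : ∃ x y : A, x * y = ε ∧ y * x = ε' := by
  obtain ⟨x₀, rfl⟩ := h.surj X
  obtain ⟨y₀, rfl⟩ := h.surj Y
  have i1 : ∀ t, ρ ε * (ρ ε * t) = ρ ε * t := fun t => by rw [← mul_assoc, ← map_mul, idem]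
  have i2 : ∀ t, ρ ε' * (ρ ε' * t) = ρ ε' * t := fun t => by rw [← mul_assoc, ← map_mul, idem']
  have i3 : ∀ t, ρ x₀ * (ρ ε' * t) = ρ ε * (ρ x₀ * t) := fun t => by
    rw [← h1, ← h2]; simp only [mul_assoc]
  have i4 : ∀ t, ρ y₀ * (ρ ε * t) = ρ ε' * (ρ y₀ * t) := fun t => by
    rw [← h1, ← h2]; simp only [mul_assoc]
  obtain ⟨x, hx⟩ : ∃ x, x = ε * x₀ * ε' := ⟨_, rfl⟩
  obtain ⟨y, hy⟩ : ∃ y, y = ε' * y₀ * ε := ⟨_, rfl⟩
  have x1 : ε * x = x := by rw [hx, ← mul_assoc, ← mul_assoc, idem]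
  have x2 : x * ε' = x := by rw [hx, mul_assoc, idem']
  have y1 : ε' * y = y := by rw [hy, ← mul_assoc, ← mul_assoc, idem']
  have y2 : y * ε = y := by rw [hy, mul_assoc, idem]
  have e1 : ρ (x * y) = ρ ε := by
    have : ρ x₀ * (ρ y₀ * ρ ε) = ρ ε := by rw [← mul_assoc, h1, ← map_mul, idem]
    simp only [hx, hy, map_mul, mul_assoc, i2, i3, i1, this]; rw [← map_mul, idem]
  have e2 : ρ (y * x) = ρ ε' := by
    have : ρ y₀ * (ρ x₀ * ρ ε') = ρ ε' := by rw [← mul_assoc, h2, ← map_mul, idem']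
    simp only [hx, hy, map_mul, mul_assoc, i1, i4, i2, this]; rw [← map_mul, idem']
  obtain ⟨w, hw⟩ := h.unit (x * y + (1 - ε)) (by rw [map_add, e1, map_sub, map_one]; abel)
  have u := h.unit (y * x + (1 - ε')) (by rw [map_add, e2, map_sub, map_one]; abel)
  have w1 : w * ε = x * y := by rw [hw, add_mul, mul_assoc, y2, sub_mul, one_mul, idem]; abel
  have w2 : ε * w = x * y := by rw [hw, mul_add, ← mul_assoc, x1, mul_sub, mul_one, idem]; abel
  refine ⟨x, y * ↑w⁻¹, by rw [← mul_assoc, ← w2, Units.mul_inv_cancel_right], ?_⟩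
  refine u.mul_right_cancel ?_
  have e3 : x * (1 - ε') = 0 := by rw [mul_sub, x2, mul_one, sub_self]
  have e4 : ε' * (1 - ε') = 0 := by rw [mul_sub, idem', mul_one, sub_self]
  rw [mul_add, mul_add, e4, mul_assoc _ x (1 - ε'), e3, mul_zero, ← mul_assoc ε', y1,
    mul_assoc _ x, ← mul_assoc x, ← w1, ← mul_assoc, ← mul_assoc, Units.inv_mul_cancel_right, y2]

end SemiPerf
end Ring

section Lin
variable {F V : Type*} [Field F] [AddCommGroup V] [Module F V]

/-- Rank one idempotents. -/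
def IsRkOne (T : End F V) : Prop := ∃ (φ : V →ₗ[F] F) (v : V), φ v = 1 ∧ T = φ.smulRight v

theorem smulRight_mul_smulRight (φ ψ : V →ₗ[F] F) (v w : V) (h : φ w = 1) :
    (φ.smulRight v : End F V) * ψ.smulRight w = ψ.smulRight v := by
  ext x; simp [h]

theorem IsRkOne.idem {T : End F V} (h : IsRkOne T) : T * T = T := by
  obtain ⟨φ, v, h, rfl⟩ := h
  exact smulRight_mul_smulRight φ φ v v h

theorem IsRkOne.equiv {T T' : End F V} (h : IsRkOne T) (h' : IsRkOne T') :
    ∃ X Y, X * Y = T ∧ Y * X = T' := by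
  obtain ⟨φ, v, h, rfl⟩ := h
  obtain ⟨ψ, w, h', rfl⟩ := h'
  exact ⟨ψ.smulRight v, φ.smulRight w, smulRight_mul_smulRight _ _ _ _ h',
    smulRight_mul_smulRight _ _ _ _ h⟩

theorem IsRkOne.trace [FiniteDimensional F V] {T : End F V} (h : IsRkOne T) :
    LinearMap.trace F V T = 1 := by
  obtain ⟨φ, v, h, rfl⟩ := h
  rw [LinearMap.trace_smulRight, h]

theorem exists_isRkOne_le [FiniteDimensional F V] {E : End F V} (idem : E * E = E) (h0 : E ≠ 0) :
    ∃ T, IsRkOne T ∧ E * T = T ∧ T * E = T ∧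
      finrank F (LinearMap.range (E - T)) < finrank F (LinearMap.range E) := by
  obtain ⟨u, hu⟩ : ∃ u, E u ≠ 0 := by
    by_contra hc
    push Not at hc
    exact h0 (LinearMap.ext hc)
  have hE : ∀ x, E (E x) = E x := fun x => LinearMap.congr_fun idem x
  obtain ⟨φ, hφ⟩ := Module.Projective.exists_dual_eq_one F hu
  refine ⟨(φ ∘ₗ E).smulRight (E u), ⟨_, _, by simp [hE, hφ], rfl⟩, ?_, ?_,
    Submodule.finrank_lt_finrank_of_lt (lt_of_le_of_ne ?_ fun h => ?_)⟩
  · ext x; simp [hE]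
  · ext x; simp [hE]
  · rintro _ ⟨x, rfl⟩
    exact ⟨x - φ (E x) • u, by simp⟩
  · obtain ⟨x, hx⟩ : E u ∈ LinearMap.range (E - (φ ∘ₗ E).smulRight (E u)) := h ▸ ⟨u, rfl⟩
    have := congrArg φ hx
    simp [hφ] at this

theorem IsRkOne.exists_sum [FiniteDimensional F V] {T : End F V} (h : IsRkOne T) :
    ∃ (n : ℕ) (X Y : Fin n → End F V), ∑ k, X k * T * Y k = 1 := by
  obtain ⟨φ, v, h, rfl⟩ := h
  let b := Module.finBasis F V
  refine ⟨_, fun k => φ.smulRight (b k), fun k => (b.coord k).smulRight v, ?_⟩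
  simp only [smulRight_mul_smulRight _ _ _ _ h]
  ext x
  simp [LinearMap.sum_apply]

variable {ι : Type*} [Fintype ι] [DecidableEq ι] {W : ι → Type*} [∀ i, AddCommGroup (W i)]
  [∀ i, Module F (W i)] [∀ i, FiniteDimensional F (W i)] {A : Type*} [Ring A]
  {ρ : A →+* ∀ i, End F (W i)}

/-- Every idempotent is a sum of idempotents equivalent to the chosen primitive ones. -/
theorem SemiPerf.exists_eq_sum (h : SemiPerf ρ) {f : ι → A} (hf : ∀ i, f i * f i = f i)
    {T : ∀ i, End F (W i)} (hT : ∀ i, IsRkOne (T i)) (hρ : ∀ i, ρ (f i) = Pi.single i (T i))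
    {N : Type*} [AddCommGroup N] (v : A →+ N) (hv : ∀ x y, v (x * y) = v (y * x))
    {ε : A} (idem : ε * ε = ε) :
    ∃ n : ι → ℕ, v ε = ∑ i, n i • v (f i) ∧ ∀ i, ρ ε i = 0 → n i = 0 := by
  generalize hm : ∑ i, finrank F (LinearMap.range (ρ ε i)) = m
  induction m using Nat.strong_induction_on generalizing ε with
  | _ m ih =>
  by_cases h0 : ρ ε = 0
  · exact ⟨0, by simp [h.eq_zero idem h0], fun _ _ => rfl⟩
  obtain ⟨j, hj⟩ := Function.ne_iff.1 h0
  have hi : ρ ε * ρ ε = ρ ε := by rw [← map_mul, idem]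
  obtain ⟨S, hS, h1, h2, h3⟩ := exists_isRkOne_le (congrFun hi j) hj
  obtain ⟨g, g0, g1, g2, g3⟩ := h.exists_le idem (T := Pi.single j S)
    (by rw [← Pi.single_mul, hS.idem]) (by rw [← Pi.single_mul_right, h1])
    (by rw [← Pi.single_mul_left, h2])
  obtain ⟨X, Y, e1, e2⟩ := hS.equiv (hT j)
  obtain ⟨x, y, e3, e4⟩ := h.exists_equiv g0 (hf j) (X := Pi.single j X) (Y := Pi.single j Y)
    (by rw [← Pi.single_mul, e1, g1]) (by rw [← Pi.single_mul, e2, hρ])
  have e5 : ∀ i, i ≠ j → ρ (ε - g) i = ρ ε i := fun i hi => by simp [g1, hi]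
  have e6 : ρ (ε - g) j = ρ ε j - S := by simp [g1]
  obtain ⟨n, hn, hn'⟩ := ih _ (by
    rw [← hm]
    refine Finset.sum_lt_sum (fun i _ => ?_) ⟨j, Finset.mem_univ _, by rwa [e6]⟩
    by_cases hi : i = j
    · subst hi; rw [e6]; exact h3.le
    · rw [e5 i hi]) (ε := ε - g) (by rw [sub_mul, mul_sub, mul_sub, idem, g0, g2, g3]; abel) rfl
  refine ⟨n + Pi.single j 1, ?_, fun i hi => ?_⟩
  · simp only [Pi.add_apply, add_smul, Finset.sum_add_distrib, ← hn]
    rw [Finset.sum_eq_single j (fun i _ hi => by simp [hi]) (by simp), Pi.single_eq_same, one_smul,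
      ← e4, hv, e3, map_sub, sub_add_cancel]
  · have hij : i ≠ j := fun e => hj (e ▸ hi)
    simp [hn' i ((e5 i hij).trans hi), hij]

end Lin

section Loc
variable {M : Ideal AlgInt} [hM : M.IsPrime]

theorem mem_locRing_of_isIntegral_locRing {z : ℂ} (hz : IsIntegral (locRing M) z) :
    z ∈ locRing M := by
  let _ : Algebra AlgInt (locRing M) :=
    ((algebraMap AlgInt ℂ).codRestrict (locRing M) fun a => coe_mem_locRing a).toAlgebra
  have : IsScalarTower AlgInt (locRing M) ℂ := IsScalarTower.of_algebraMap_eq fun _ => rfl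
  have : IsLocalization M.primeCompl (locRing M) := by
    refine ⟨⟨fun b => (isUnit_locRing_iff _).2 fun h => b.2 ((memLocalIdeal_coe_iff _).1 h),
      ?_, fun {x y} h => ⟨1, by
        rw [show x = y from Subtype.ext (congrArg (fun t : locRing M => (t : ℂ)) h)]⟩⟩⟩
    rintro ⟨z, a, b, hb, rfl⟩
    exact ⟨⟨a, b, hb⟩, Subtype.ext (div_mul_cancel₀ _ (coe_ne_zero_of_notMem M hb))⟩
  obtain ⟨m, hm⟩ := hz.exists_multiple_integral_of_isLocalization M.primeCompl
  refine ⟨⟨_, isIntegral_trans (R := ℤ) _ hm⟩, m, m.2, ?_⟩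
  exact mul_div_cancel_left₀ z (coe_ne_zero_of_notMem M m.2)

theorem exists_coprime_split (P : (locRing M)[X]) (hP : P.Monic) :
    ∃ P₀ P₁, P = P₀ * P₁ ∧ IsCoprime P₀ P₁ ∧ (∀ α : locRing M, red M α = 1 →
      IsCoprime P₀ (X - C α)) ∧ ∀ β : locRing M, red M β ≠ 1 → IsCoprime (X - C β) P₁ := by
  have key : ∀ α β : locRing M, red M α = 1 → red M β ≠ 1 → IsCoprime (X - C β) (X - C α) :=
    fun α β h h' => isCoprime_X_sub_C_of_isUnit_sub ((isUnit_locRing_iff _).2 fun e =>
      h' (((memLocalIdeal_sub_iff β.2 α.2).1 e).trans h))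
  generalize hn : P.natDegree = n
  induction n generalizing P with
  | zero => exact ⟨1, 1, by rw [hP.natDegree_eq_zero.1 hn, mul_one], isCoprime_one_left,
      fun _ _ => isCoprime_one_left, fun _ _ => isCoprime_one_right⟩
  | succ n ih =>
  obtain ⟨z, hz⟩ := IsAlgClosed.exists_aeval_eq_zero ℂ P
    (natDegree_pos_iff_degree_pos.1 (by omega)).ne'
  have hz' := mem_locRing_of_isIntegral_locRing ⟨P, hP, by rwa [← aeval_def]⟩
  have h0 : P.IsRoot ⟨z, hz'⟩ := Subtype.ext (by
    have := aeval_algebraMap_apply ℂ (⟨z, hz'⟩ : locRing M) P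
    rw [coe_aeval_eq_eval] at this
    exact this.symm.trans hz)
  obtain ⟨Q, rfl⟩ := dvd_iff_isRoot.2 h0
  have hQ := (monic_X_sub_C _).of_mul_monic_left hP
  rw [(monic_X_sub_C _).natDegree_mul hQ, natDegree_X_sub_C] at hn
  obtain ⟨P₀, P₁, rfl, h1, h2, h3⟩ := ih Q hQ (by omega)
  by_cases h : red M z = 1
  · exact ⟨P₀, (X - C ⟨z, hz'⟩) * P₁, by ring, (h2 _ h).mul_right h1, h2,
      fun β hβ => (key _ _ h hβ).mul_right (h3 β hβ)⟩
  · exact ⟨(X - C ⟨z, hz'⟩) * P₀, P₁, by ring, (h3 _ h).mul_left h1,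
      fun α hα => (key _ _ hα h).mul_left (h2 α hα), h3⟩

theorem exists_idem_of_isIntegral {A : Type*} [Ring A] [Algebra (locRing M) A] {a : A}
    (ha : IsIntegral (locRing M) a) :
    ∃ b c, a * b = b * a ∧ a * b * (a * b) = a * b ∧ a * b = a + (a * a - a) * c := by
  obtain ⟨P, hP, h0⟩ := ha
  obtain ⟨P₀, P₁, rfl, h1, h2, h3⟩ := exists_coprime_split P hP
  have h4 : IsCoprime (X - C 0 : (locRing M)[X]) (X - C 1) :=
    isCoprime_X_sub_C_of_isUnit_sub (by simp)
  obtain ⟨U, V, h5⟩ := ((h3 0 (by simp)).mul_left h1).mul_right (h4.mul_left (h2 1 (by simp)))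
  rw [map_zero, sub_zero, map_one] at h5
  rw [← aeval_def] at h0
  refine ⟨aeval a (U * P₀), aeval a (- U * P₀ - V * P₁), ?_, ?_, ?_⟩
  · nth_rw 1 [← aeval_X (R := locRing M) a]
    rw [← map_mul, mul_comm, map_mul, aeval_X]
  · have : X * (U * P₀) * (X * (U * P₀)) = X * (U * P₀) - U * V * X * (X - 1) * (P₀ * P₁) := by
      linear_combination (X * U * P₀) * h5
    have := congrArg (aeval a) this
    rwa [map_sub, map_mul _ _ (P₀ * P₁), h0, mul_zero, sub_zero, map_mul, map_mul _ X,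
      aeval_X] at this
  · have : X * (U * P₀) = X + (X * X - X) * (- U * P₀ - V * P₁) := by
      linear_combination X * h5
    simpa using congrArg (aeval a) this

end Loc

variable {G : Type*} [Group G] [Finite G]

theorem eq_of_ev_mul_of {a b : ℂ[G]}
    (h : ∀ (χ : IrrCharacter G) g, ev χ (a * of ℂ G g) = ev χ (b * of ℂ G g)) : a = b :=
  ext_coeff fun g => by simp only [coeff_eq_sum_irr, h]

theorem eq_fblk_of_ev {ε : ℂ[G]} (idem : ε * ε = ε) {U : Set (IrrCharacter G)}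
    (h1 : ∀ χ ∈ U, ev χ ε = (χ : G → ℂ) 1) (h0 : ∀ χ ∉ U, ev χ ε = 0) : ε = fblk U :=
  eq_of_ev_mul_of fun χ g => by
    by_cases hχ : χ ∈ U
    · have := ev_idem_mul_eq_zero χ.2.isCharacter (ε := 1 - ε)
        (by rw [sub_mul, one_mul, mul_sub, mul_one, idem, sub_self, sub_zero])
        (by rw [map_sub, ev_one, h1 χ hχ, sub_self]) (of ℂ G g)
      rw [sub_mul, map_sub, one_mul, sub_eq_zero] at this
      rw [ev_fblk_mul_of_mem hχ, this]
    · rw [ev_fblk_mul_of_notMem hχ, ev_idem_mul_eq_zero χ.2.isCharacter idem (h0 χ hχ)]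

section Prime
variable {M : Ideal AlgInt} [M.IsPrime]

variable (G M) in
/-- Reduction as a ring homomorphism. -/
noncomputable def redHom : SG G M →+* (Res M)[G] where
  toFun a := redA M a
  map_one' := redA_one
  map_mul' a b := redA_mul a.2 b.2
  map_zero' := redA_zero
  map_add' a b := redA_add a.2 b.2

theorem semiPerf_comp {R : Type*} [Ring R] (π : (Res M)[G] →+* R) (hs : Function.Surjective π)
    (hj : ∀ a, π a = 0 → IsNilpotent a) : SemiPerf (π.comp (redHom G M)) := by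
  have : Module.Finite (locRing M) (SG G M) := Module.Finite.iff_fg.2 SG_fg
  have lift : ∀ a, (π.comp (redHom G M)) a * (π.comp (redHom G M)) a = (π.comp (redHom G M)) a →
      ∃ b, a * b = b * a ∧ a * b * (a * b) = a * b ∧
        (π.comp (redHom G M)) (a * b) = (π.comp (redHom G M)) a := fun a ha => by
    obtain ⟨b, c, h1, h2, h3⟩ := exists_idem_of_isIntegral (IsIntegral.of_finite (locRing M) a)
    exact ⟨b, h1, h2, by rw [h3, map_add, map_mul, map_sub, map_mul, ha, sub_self, zero_mul,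
      add_zero]⟩
  refine ⟨hs.comp fun a => ⟨⟨_, liftA_mem_SG a⟩, redA_liftA a⟩, fun w hw => ?_, lift⟩
  obtain ⟨b, h1, h2, h3⟩ := lift w (by rw [hw, mul_one])
  have h4 : redHom G M (w * b) = 1 := by
    refine (sub_eq_zero.1 (eq_zero_of_idem_of_isNilpotent ?_ (hj _ ?_))).symm
    · rw [sub_mul, one_mul, mul_sub, mul_one, ← map_mul, h2, sub_self, sub_zero]
    · rw [map_sub, map_one, sub_eq_zero, ← hw, ← h3]; rfl
  have h5 : w * b = 1 := Subtype.ext ((isUnit_of_redA_eq_one (w * b).2 h4).mul_left_cancel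
    ((congrArg Subtype.val h2).trans (mul_one _).symm))
  exact ⟨⟨w, b, h5, h1 ▸ h5⟩, rfl⟩

end Prime

variable {p : ℕ} [hp : Fact p.Prime] {M : Ideal AlgInt} [Modular p M] {B : Set (IrrCharacter G)}

variable (G) in
/-- The values of the irreducible characters on an integral element. -/
noncomputable def evs (M : Ideal AlgInt) [M.IsPrime] : SG G M →+ IrrCharacter G → ℂ where
  toFun a χ := ev χ (a : ℂ[G])
  map_zero' := funext fun _ => map_zero _
  map_add' a b := funext fun χ => by rw [Subalgebra.coe_add, map_add]; rfl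

omit hp in
theorem evs_mul_comm (a b : SG G M) : evs G M (a * b) = evs G M (b * a) :=
  funext fun χ => ev_mul_comm χ.2.isClassFunction _ _

omit hp in
variable (G M) in
/-- The projective indecomposable characters `χ ↦ χ (f i)`. -/
theorem exists_pims : ∃ (r : ℕ) (d : Fin r → ℕ)
    (ρ : SG G M →+* ∀ i, End (Res M) (Fin (d i) → Res M)) (f : Fin r → SG G M)
    (T : ∀ i, End (Res M) (Fin (d i) → Res M)), SemiPerf ρ ∧ (∀ i, f i * f i = f i) ∧
      (∀ i, IsRkOne (T i)) ∧ (∀ i, ρ (f i) = Pi.single i (T i)) ∧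
      LinearIndependent ℂ fun i => evs G M (f i) := by
  classical
  have := Fintype.ofFinite G
  obtain ⟨r, d, π, hd, hs, hj⟩ := Cyc.exists_wedderburn (Res M) (Res M)[G]
  have h := semiPerf_comp (RingHom.pi fun i => (π i).toRingHom)
    (fun T => (hs T).imp fun a ha => funext ha)
    fun a ha => isNilpotent_of_mem_jacobson (hj a (congrFun ha))
  have hT := fun i => exists_isRkOne_le (E := (1 : End (Res M) (Fin (d i) → Res M))) (mul_one 1)
    (by have : Nonempty (Fin (d i)) := ⟨⟨0, Nat.pos_of_ne_zero (hd i)⟩⟩; exact one_ne_zero)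
  choose T hT _ using hT
  choose f hf hρ _ using fun i => h.exists_le (mul_one 1) (T := Pi.single i (T i))
    (by rw [← Pi.single_mul, (hT i).idem]) (by rw [map_one, one_mul]) (by rw [map_one, mul_one])
  refine ⟨r, d, _, f, T, h, hf, hT, hρ, Fintype.linearIndependent_iff.2 fun c hc => ?_⟩
  let τ : Fin r → (Res M)[G] →ₗ[Res M] Res M := fun j => LinearMap.trace _ _ ∘ₗ (π j).toLinearMap
  let θ : Fin r → G → ℂ := fun j g => lift M (τ j (of (Res M) G g))
  have hθ : ∀ j, IsClassFunction G (θ j) := fun j g x => congrArg (lift M) (Cyc.trace_conj _ x g)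
  let W : Matrix (Fin r) (Fin r) ℂ := fun j i => ev (θ j) (f i : ℂ[G])
  have hW : IsUnit W := isUnit_matrix_of_red (M := M)
    (fun j i => ev_mem (fun _ => lift_mem _) (f i).2) fun j i => by
      have e : τ j (redA M (f i)) = (1 : Matrix (Fin r) (Fin r) (Res M)) j i := by
        have : π j (redA M (f i)) = Pi.single (M := fun i => End (Res M) (Fin (d i) → Res M))
          i (T i) j := congrFun (hρ i) j
        simp only [τ, LinearMap.comp_apply, AlgHom.toLinearMap_apply, this]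
        by_cases hij : j = i
        · subst hij; rw [Pi.single_eq_same, (hT j).trace, Matrix.one_apply_eq]
        · rw [Pi.single_eq_of_ne hij, map_zero, Matrix.one_apply_ne hij]
      rw [← e, red_ev (fun _ => lift_mem _) (f i).2, Cyc.linear_apply_eq_sum (τ j)]
      simp only [red_lift, smul_eq_mul]
  have h0 : W.mulVec c = 0 := funext fun j => by
    simp only [W, Matrix.mulVec, dotProduct, Pi.zero_apply]
    rw [(hθ j).eq_sum_irr]
    simp only [ev_sum_left, ev_smul_left, Finset.sum_mul]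
    rw [Finset.sum_comm]
    refine Finset.sum_eq_zero fun χ _ => ?_
    have := congrFun hc χ
    simp only [Finset.sum_apply, Pi.smul_apply, smul_eq_mul, Pi.zero_apply] at this
    simp only [mul_assoc, ← Finset.mul_sum, mul_comm (ev _ _)]
    exact mul_eq_zero_of_right _ this
  exact congrFun ((Matrix.mulVec_injective_iff_isUnit.2 hW) (h0.trans (Matrix.mulVec_zero W).symm))

theorem mem_indSpan_of_vanish {E : Type*} [Group E] [Fintype E] {q : ℕ} (hq : q.Prime)
    (hE : IsElementary q E) {η : E → ℂ} (hη : IsGeneralizedCharacter E η)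
    (h0 : ∀ g, p ∣ orderOf g → η g = 0) : η ∈ indSpan {U : Subgroup E | ¬ p ∣ Nat.card U} := by
  have hN : Nat.card E ≠ 0 := Nat.card_pos.ne'
  have hmn := (Nat.coprime_ordCompl hp.out hN).pow_left ((Nat.card E).factorization p)
  have hord : ∀ x : E, orderOf x ∣ _ := fun x =>
    (Nat.ordProj_mul_ordCompl_eq_self (Nat.card E) p).symm ▸ orderOf_dvd_natCard x
  obtain ⟨a, a1, a0⟩ := exists_modEq_one_and_dvd hmn
  obtain ⟨b, b1, b0⟩ := exists_modEq_one_and_dvd hmn.symm
  obtain ⟨Q, hn, hQ⟩ : ∃ Q : Subgroup E, Q.Normal ∧ ∀ x, x ∈ Q ↔ orderOf x ∣ ordCompl[p] (Nat.card E) :=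
    ⟨(hE.powHom hq hmn hord a1 a0).ker, inferInstance,
      fun x => pow_eq_one_iff_orderOf_dvd hmn a1 a0 (hord x)⟩
  have := Fintype.ofFinite Q
  have hord' : ∀ x : E, orderOf x ∣ _ := fun x => mul_comm (ordProj[p] (Nat.card E)) _ ▸ hord x
  let τ : E →* Q := (hE.powHom hq hmn.symm hord' b1 b0).codRestrict Q fun x =>
    (hQ _).2 (orderOf_pow_dvd_of_dvd b0 (hord' x))
  have hτ : ∀ x : Q, τ x = x := fun x => Subtype.ext (pow_eq_self_of_orderOf_dvd b1 ((hQ _).1 x.2))
  have hi : (Q.index : ℂ) ≠ 0 := Nat.cast_ne_zero.2 index_ne_zero_of_finite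
  have e : indFun Q (fun x => (Q.index : ℂ)⁻¹ * η x) = η := funext fun x => by
    by_cases hx : x ∈ Q
    · rw [indFun_normal_apply_of_invariant Q _ (fun g n => by rw [hη.isClassFunction]) ⟨x, hx⟩,
        mul_inv_cancel_left₀ hi]
    · rw [indFun_normal_of_not_mem Q _ hx, h0]
      by_contra h
      exact hx ((hQ x).2 (((Nat.Prime.coprime_iff_not_dvd hp.out).2 h).symm.pow_right _
        |>.dvd_of_dvd_mul_left (hord x)))
  rw [← e]
  refine indFun_mem_indSpan (fun h => ?_) (((hη.isClassFunction.restrict Q).map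
    fun z => (Q.index : ℂ)⁻¹ * z).isGeneralizedCharacter_of_inner_int fun ψ hψ => ?_)
  · obtain ⟨x, hx⟩ := exists_prime_orderOf_dvd_card' p h
    exact Nat.not_dvd_ordCompl hp.out hN ((hx ▸ orderOf_coe x).symm.dvd.trans ((hQ _).1 x.2))
  · obtain ⟨n, hn⟩ := hη.exists_inner_eq_int (hψ.isCharacter.comp τ).isGeneralizedCharacter
    rw [← e, frobenius_reciprocity Q _ (hψ.isCharacter.comp τ).isClassFunction] at hn
    exact ⟨n, by simpa only [Function.comp_apply, hτ] using hn⟩

theorem mem_linSpan_of_vanish {G : Type*} [Group G] [Fintype G] {θ : G → ℂ}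
    (hθ : IsGeneralizedCharacter G θ) (h0 : ∀ g, p ∣ orderOf g → θ g = 0) :
    θ ∈ linSpan {U : Subgroup G | ¬ p ∣ Nat.card U} := by
  let ℋ := {U : Subgroup G | ¬ p ∣ Nat.card U ∧ ∃ q : ℕ, q.Prime ∧ IsElementary q U}
  have h1 : indSpan ℋ ≤ linSpan ℋ := by
    refine indSpan_le_linSpan_of_monomial ?_ ?_
    · rintro H ⟨h, q, hq, hH⟩ U hU
      exact ⟨fun e => h (e.trans (card_dvd_of_le hU)), q, hq, hH.of_le hq hU⟩
    · rintro E ⟨-, q, hq, hE⟩ _ φ hφ
      have := hE.isNilpotent hq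
      exact isMonomial_of_isNilpotent hφ
  refine AddSubgroup.closure_mono (Set.image_mono fun t ht => ht.1) (h1 ?_)
  have h2 : (fun _ => (1 : ℂ)) * θ ∈ indSpan ℋ := by
    refine indSpan_le (R := (indSpan ℋ).comap (AddMonoidHom.mulRight θ)) ?_
      one_mem_indSpan_elementary
    rintro E ⟨q, hq, hE⟩ φ hφ
    have := Fintype.ofFinite E
    change indFun E φ * θ ∈ indSpan ℋ
    rw [← indFun_mul_res E φ hθ.isClassFunction]
    refine indFun_mem_indSpan_of_mem E (fun U hU => And.intro ?_ ⟨q, hq, hE.of_le hq (map_subtype_le U)⟩)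
      (mem_indSpan_of_vanish (p := p) hq hE (hφ.isGeneralizedCharacter.mul (hθ.restrict E))
        fun e he => mul_eq_zero_of_right _ (h0 e (by rwa [orderOf_coe])))
    rwa [card_subtype]
  rwa [show (fun _ => (1 : ℂ)) * θ = θ from one_mul θ] at h2

/-- A generalized character vanishing on the `p`-singular elements is an integral combination
of projective characters. -/
theorem inner_mem_of_vanish {G : Type*} [Group G] [Fintype G] {θ : G → ℂ}
    (hθ : IsGeneralizedCharacter G θ) (h0 : ∀ g, p ∣ orderOf g → θ g = 0)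
    (R : AddSubgroup (IrrCharacter G → ℂ)) (hR : ∀ ε : SG G M, ε * ε = ε → evs G M ε ∈ R) :
    (fun χ : IrrCharacter G => classInner (χ : G → ℂ) θ) ∈ R := by
  let c : (G → ℂ) →+ IrrCharacter G → ℂ :=
    AddMonoidHom.mk' (fun θ χ => classInner (χ : G → ℂ) θ) fun a b =>
      funext fun χ => classInner_add_right _ a b
  refine (AddSubgroup.closure_le (K := R.comap c)).2 ?_ (mem_linSpan_of_vanish hθ h0)
  rintro _ ⟨⟨U, l⟩, hU, rfl⟩
  have := Fintype.ofFinite U
  classical
  let ψ : IrrCharacter U := ⟨_, isIrrCharacter_hom l⟩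
  have h1 : fblk {ψ} ∈ SG U M := fun g => by
    rw [coeff_fblk, blockCoeff_eq]
    exact mul_mem (natCast_inv_mem hU) (sum_mem fun χ _ => mul_mem (irr_mem χ 1)
      (mem_locRing_of_isIntegral (isIntegral_conj (χ.2.isIntegral g))))
  change c (indFun U _) ∈ R
  convert hR ⟨_, fbl_mem_SG h1⟩ (Subtype.ext (fbl_idem _)) using 1
  funext χ
  have hχ := χ.2.isClassFunction
  change classInner _ (indFun U _) = ev _ (emb _ _)
  rw [frobenius_reciprocity' U _ hχ, ev_emb, ← mul_one (fblk _)]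
  refine Eq.trans ?_ (ev_fblk_mul (hχ.restrict U) _ _).symm
  rw [ev_one, blockPart_eq_sum]
  simp [Finset.filter_eq', ψ]

omit hp in
theorem SemiPerf.eq_one_of_ne_zero {r : ℕ} {d : Fin r → ℕ}
    {ρ : SG G M →+* ∀ i, End (Res M) (Fin (d i) → Res M)} (h : SemiPerf ρ) {e : SG G M}
    (he : (e : ℂ[G]) ∈ fix ℂ ⊤) (idem : e * e = e) {i : Fin r} (h0 : ρ e i ≠ 0) : ρ e i = 1 := by
  obtain ⟨c, hc⟩ := Cyc.exists_eq_smul_of_forall_commute (ρ e i) fun S => by
    obtain ⟨a, ha⟩ := h.surj (Pi.single i S)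
    have : a * e = e * a := Subtype.ext (commute_of_fix_top he _).eq
    simpa [ha] using congrFun (congrArg ρ this) i
  have h1 : ρ e i * ρ e i = ρ e i := by rw [← Pi.mul_apply, ← map_mul, idem]
  have h2 : c ≠ 0 := fun e => h0 (by rw [hc, e, zero_smul])
  nth_rw 1 [hc] at h1
  rw [smul_mul_assoc, one_mul] at h1
  rw [hc, show c = 1 from smul_left_injective _ h0 (h1.trans (one_smul _ _).symm), one_smul]

end Cfsg.Lib.Block
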