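import Cfsg.Agent.Lib.Block.Constr
import Cfsg.Agent.Lib.Clifford.Degree
import Cfsg.Agent.Lib.Clifford.Extension

/-!
# Fong reduction for blocks of `p`-solvable groups

* `fong_induction`: an induction principle for blocks of `p`-solvable groups: it suffices to treat
  blocks `Irr(G | θ)` over an invariant `θ ∈ Irr(O_{p'}(G))` and to pass through the Fong–Reynolds
  correspondence.
* `factorization_degree_le_of_invariant`: the `p`-part of the degree of a character over an
  invariant character of `O_{p'}(G)` divides `[P : Z(P)]`.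
-/

set_option autoImplicit false
set_option linter.unusedSectionVars false
set_option linter.dupNamespace false

namespace Cfsg.Lib.Block

open _root_.Cfsg.Lib.Block MonoidAlgebra Cfsg.Lib.Char Cfsg.Lib.Modular Cfsg.Lib.Transfer Subgroup
open Cfsg.Lib.Clifford Cfsg.Lib.Induce

universe u

variable {p : ℕ} [hp : Fact p.Prime] {M : Ideal AlgInt} [Modular p M]

section FR
variable {G : Type*} [Group G] [Fintype G] {N T : Subgroup G} [hN : N.Normal]
  {b : Set (IrrCharacter N)} {B : Set (IrrCharacter G)} {B' : Set (IrrCharacter T)}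

/-- Defect groups pass through the Fong–Reynolds correspondence. -/
theorem Covers.isDefectGroup_map (hb : IsPBlock M b) (hT : T = stab (ebl N M b)) {hNT : N ≤ T}
    (h : Covers (inclusion hNT) B' b) (hind : IsInducedBlock M T B' B) {D : Subgroup T}
    (hD : IsDefectGroup p M B' D) : IsDefectGroup p M B (D.map T.subtype) := by
  have hB := hind.2.1
  have hB' := hind.1
  have h1 := (h.isInducedBlock_iff hb hB' hB hT).1 hind
  rw [hB'.isDefectGroup_iff_isDefIn_map, ← h1] at hD
  rw [hB.isDefectGroup_iff_isDefIn_top]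
  refine hB.isBlkIdem_top.isDefIn_of_mul_stab hb.isBlkIdem le_top le_normalizer_top
    (h1 ▸ hB'.ebl_ne_zero) ?_
  rwa [top_inf_eq, ← hT]

/-- Heights pass through the Fong–Reynolds correspondence. -/
theorem Covers.blockHeight_indFun (p : ℕ) [Fact p.Prime] [Modular p M] (hb : IsPBlock M b)
    (hT : T = stab (ebl N M b)) {hNT : N ≤ T} (h : Covers (inclusion hNT) B' b)
    (hind : IsInducedBlock M T B' B) {ψ : IrrCharacter T} (hψ : ψ ∈ B') :
    blockHeight p B (indFun T (ψ : T → ℂ)) = blockHeight p B' (ψ : T → ℂ) := by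
  have hB := hind.2.1
  have hB' := hind.1
  have h2 := ((h.over_le hb hB' hψ).isIrrCharacter_indFun hb hT.ge hNT).1
  have h3 : (⟨_, h2⟩ : IrrCharacter G) ∈ B := (h.mem_iff_indFun hb hT hind _).2 ⟨ψ, hψ, rfl⟩
  obtain ⟨D, hD⟩ := hB'.exists_isDefectGroup (p := p)
  have h4 := hB.factorization_degree_eq (h.isDefectGroup_map hb hT hind hD) h3
  have h5 : charDegree (indFun T (ψ : T → ℂ)) = T.index * charDegree (ψ : T → ℂ) :=
    charDegree_eq (by
      rw [Lib.Induce.indFun_one, apply_one_eq_charDegree ψ.2.isCharacter]; push_cast; rfl)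
  rw [index_map_subtype, Nat.factorization_mul index_ne_zero_of_finite index_ne_zero_of_finite] at h4
  change (charDegree (indFun T (ψ : T → ℂ))).factorization p =
    _ + blockHeight p B (indFun T (ψ : T → ℂ)) at h4
  rw [h5, Nat.factorization_mul index_ne_zero_of_finite (charDegree_ne_zero ψ.2), Finsupp.add_apply,
    Finsupp.add_apply, hB'.factorization_degree_eq hD hψ] at h4
  omega

end FR

variable (p M) in
/-- Fong's first reduction as an induction principle for blocks of `p`-solvable groups. -/
theorem fong_induction (Pr : ∀ (G : Type u) [Group G] [Fintype G], Set (IrrCharacter G) → Prop)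
    (step : ∀ (G : Type u) [Group G] [Fintype G] (N T : Subgroup G) [N.Normal] [Fintype T]
      (b : Set (IrrCharacter N)) (hNT : N ≤ T) (B' : Set (IrrCharacter T))
      (B : Set (IrrCharacter G)), IsPSolvable p G → IsPBlock M b → T = stab (ebl N M b) →
      Covers (inclusion hNT) B' b → IsInducedBlock M T B' B → Pr T B' → Pr G B)
    (base : ∀ (G : Type u) [Group G] [Fintype G] [Fintype (pPrimeCore p G)]
      (θ : IrrCharacter (pPrimeCore p G)) (B : Set (IrrCharacter G)), IsPSolvable p G →
      inertia (pPrimeCore p G) (θ : pPrimeCore p G → ℂ) = ⊤ → IsPBlock M B →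
      (∀ χ : IrrCharacter G, χ ∈ B ↔
        classInner (fun n : pPrimeCore p G => (χ : G → ℂ) n) (θ : pPrimeCore p G → ℂ) ≠ 0) →
      (∀ P : Sylow p G, IsDefectGroup p M B P) → Pr G B)
    (G : Type u) [Group G] [Fintype G] (hG : IsPSolvable p G) (B : Set (IrrCharacter G))
    (hB : IsPBlock M B) : Pr G B := by
  classical
  induction hn : Nat.card G using Nat.strong_induction_on generalizing G with
  | _ n ih =>
  let N := pPrimeCore p G
  obtain ⟨χ, hχ⟩ := hB.nonempty
  obtain ⟨θ, hθ⟩ := exists_over_singleton N.subtype χ.2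
  have hb : IsPBlock M {θ} := isPBlock_singleton_of_not_dvd (Core.not_dvd_card_pPrimeCore p G) θ
  let T := stab (ebl N M {θ})
  have hNT : N ≤ T := hb.isBlkIdem.mem_cen.1
  by_cases hT : T = ⊤
  · have hinv : inertia N (θ : N → ℂ) = ⊤ := by
      refine eq_top_iff.2 fun g _ => ?_
      have h1 : g ∈ T := hT ▸ mem_top g
      have := hb.mem_stab_iff'.1 h1 θ rfl ⟨_, isIrrCharacter_conjChar N θ.2 g⟩ fun n => rfl
      exact congrArg Subtype.val this
    obtain ⟨B₁, hB₁, h1, h2, -⟩ := exists_block_over (M := M)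
      (Core.isPConstrained_of_isPSolvable hG) rfl (θ := θ) fun g =>
        hb.stabilizesBlock_iff.2 ⟨le_normalizer_top (mem_top g), by
          change g ∈ T; exact hT ▸ mem_top g⟩
    obtain rfl : B₁ = B := hB₁.eq_of_mem hB ((h1 χ).2 ((over_subtype_iff χ θ).1 hθ)) hχ
    exact base G θ B₁ hG hinv hB₁ h1 h2
  · obtain ⟨ψ, h1, h2⟩ := hθ.exists_indFun_eq hb le_rfl hNT
    have hc : Covers (inclusion hNT) (blockOf M (ψ : T → ℂ)) {θ} := ⟨ψ, mem_blockOf_self ψ, h1⟩
    have hind := hc.isInducedBlock_indFun hb (isPBlock_blockOf ψ) le_rfl (mem_blockOf_self ψ)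
    rw [h2, ← hB.eq_blockOf hχ] at hind
    refine step G N T {θ} hNT _ B hG hb rfl hc hind (ih _ ?_ T (Core.isPSolvable_subgroup hG T) _
      (isPBlock_blockOf ψ) rfl)
    rw [← hn]
    exact (card_le_card_group T).lt_of_ne fun h => hT (eq_top_of_card_eq T h)

omit [Modular p M] in
/-- Over an invariant character of `O_{p'}(G)`, `G` being `p`-constrained, the `p`-part of a degree
divides `[P : Z(P)]`. -/
theorem factorization_degree_le_of_invariant {G : Type*} [Group G] [Finite G]
    (hG : IsPConstrained p G) [Fintype (pPrimeCore p G)] {θ : pPrimeCore p G → ℂ}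
    (hθ : IsIrrCharacter _ θ) (hinv : inertia (pPrimeCore p G) θ = ⊤) {χ : G → ℂ}
    (hχ : IsIrrCharacter G χ) (h : classInner (fun n : pPrimeCore p G => χ n) θ ≠ 0)
    (P : Sylow p G) :
    (charDegree χ).factorization p ≤ (center (P : Subgroup G)).index.factorization p := by
  classical
  let N := pPrimeCore p G
  let Q := pCore p (G ⧸ N)
  let Z : Subgroup (G ⧸ N) := Q ⊓ centralizer (Q : Set (G ⧸ N))
  let A := Z.comap (QuotientGroup.mk' N)
  have hNA : N ≤ A := fun n hn => by
    change QuotientGroup.mk' N n ∈ Z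
    rw [QuotientGroup.mk'_apply, (QuotientGroup.eq_one_iff n).2 hn]; exact one_mem _
  have := Fintype.ofFinite A
  have hcop : (Nat.card N).Coprime (N.relIndex A) := by
    have h1 : N.relIndex A = Nat.card Z := by
      conv_lhs => rw [← QuotientGroup.ker_mk' N]
      rw [relIndex_ker, map_comap_eq_self_of_surjective (QuotientGroup.mk'_surjective N)]
    rw [h1]
    exact (Core.coprime_card_of_isPGroup ((Core.pCore_isPGroup p _).to_le inf_le_left)
      (Core.pPrimeCore_coprime p G)).symm
  obtain ⟨η, hη, hηθ⟩ := exists_extension_le_of_coprime N hNA hθ (hinv ▸ le_top) hcop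
  obtain ⟨ψ, hψ, h1, h2⟩ := exists_irr_between (G := A) (inclusion hNA) (χ := fun a : A => χ a)
    (hχ.isClassFunction.comp A.subtype) h
  have h3 := res_eq_of_abelian_of_over_le N hNA (fun x hx y hy => by
    rw [← QuotientGroup.eq_one_iff]
    have := (mem_centralizer_iff.1 hy.2) _ hx.1
    simp only [QuotientGroup.mk'_apply] at this
    simp only [QuotientGroup.mk_mul, QuotientGroup.mk_inv, this]; group) hη hψ hθ
    (by rw [show (fun n : N => η ⟨n, hNA n.2⟩) = θ from funext hηθ, hθ.inner_self]; exact one_ne_zero)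
    h2
  have h4 : charDegree ψ = charDegree θ := charDegree_eq (by
    rw [← apply_one_eq_charDegree hθ.isCharacter, ← hηθ 1]; exact congrFun h3 1)
  obtain ⟨k, hk, h5⟩ := exists_charDegree_eq_mul A hχ hψ h1
  have hθp : ¬ p ∣ charDegree θ := fun hd =>
    Core.not_dvd_card_pPrimeCore p G (hd.trans hθ.charDegree_dvd_card)
  have hZ : (center (P : Subgroup G)).map (P : Subgroup G).subtype ≤ A := by
    rintro _ ⟨z, hz, rfl⟩
    have h6 : QuotientGroup.mk' N z ∈ centralizer (Q : Set (G ⧸ N)) := fun q hq => by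
      obtain ⟨y, hy, rfl⟩ := Core.pCore_le_sylow
        (P.mapSurjective (QuotientGroup.mk'_surjective N)) hq
      rw [← map_mul, ← map_mul]
      exact congrArg _ (congrArg Subtype.val ((mem_center_iff.1 hz) ⟨y, hy⟩))
    exact ⟨Core.isPConstrained_iff.1 hG h6, h6⟩
  have h7 := (Nat.factorization_le_iff_dvd (ne_zero_of_dvd_ne_zero index_ne_zero_of_finite hk)
    index_ne_zero_of_finite).2 (hk.trans (index_dvd_of_le hZ)) p
  rw [index_map_subtype, Nat.factorization_mul index_ne_zero_of_finite index_ne_zero_of_finite,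
    Finsupp.add_apply, Nat.factorization_eq_zero_of_not_dvd P.not_dvd_index] at h7
  rw [h5, h4, Nat.factorization_mul (ne_zero_of_dvd_ne_zero index_ne_zero_of_finite hk)
    (charDegree_ne_zero hθ), Finsupp.add_apply, Nat.factorization_eq_zero_of_not_dvd hθp]
  omega

theorem index_center_congr {G Γ : Type*} [Group G] [Group Γ] [Finite G] (e : G ≃* Γ) :
    (center G).index = (center Γ).index := by
  have := Finite.of_equiv _ e.toEquiv
  have h1 := (center G).card_mul_index
  rw [Nat.card_congr (centerCongr e).toEquiv, Nat.card_congr e.toEquiv,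
    ← (center Γ).card_mul_index] at h1
  exact Nat.eq_of_mul_eq_mul_left Nat.card_pos h1

/-- Fong: in a `p`-solvable group heights are bounded by `ν [D : Z(D)]`. -/
theorem Cfsg.IsPBlock.blockHeight_le_of_isPSolvable {G : Type u} [Group G] [Finite G]
    (hG : IsPSolvable p G) {B : Set (IrrCharacter G)} (hB : IsPBlock M B) {D : Subgroup G}
    (hD : IsDefectGroup p M B D) {χ : IrrCharacter G} (hχ : χ ∈ B) :
    blockHeight p B (χ : G → ℂ) ≤ (center D).index.factorization p := by
  have := Fintype.ofFinite G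
  have key : ∀ {G : Type u} [Group G] [Finite G] {B : Set (IrrCharacter G)}, IsPBlock M B →
      ∀ {D D' : Subgroup G}, IsDefectGroup p M B D → IsDefectGroup p M B D' →
      (center D).index = (center D').index := fun hB D D' hD hD' => by
    obtain ⟨x, rfl⟩ := hB.exists_conj_eq hD hD'
    exact index_center_congr ((MulAut.conj x).subgroupMap D)
  refine fong_induction p M (fun G _ _ B => ∀ D, IsDefectGroup p M B D → ∀ χ ∈ B,
    blockHeight p B (χ : G → ℂ) ≤ (center D).index.factorization p) ?_ ?_ G hG B hB D hD χ hχ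
  · intro G _ _ N T _ _ b hNT B' B _ hb hT hc hind ih D hD χ hχ
    obtain ⟨ψ, hψ, h1⟩ := (hc.mem_iff_indFun hb hT hind χ).1 hχ
    obtain ⟨D', hD'⟩ := hind.1.exists_isDefectGroup (p := p)
    rw [h1, hc.blockHeight_indFun p hb hT hind hψ,
      key hind.2.1 hD (hc.isDefectGroup_map hb hT hind hD')]
    rw [← index_center_congr (equivMapOfInjective D' _ T.subtype_injective)]
    exact ih D' hD' ψ hψ
  · intro G _ _ _ θ B hG hinv hB h1 h2 D hD χ hχ
    obtain ⟨P⟩ : Nonempty (Sylow p G) := inferInstance
    have h3 := hB.factorization_degree_eq (h2 P) hχ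
    have h4 := factorization_degree_le_of_invariant (Core.isPConstrained_of_isPSolvable hG) θ.2
      hinv χ.2 ((h1 χ).1 hχ) P
    rw [key hB hD (h2 P)]
    omega

end Cfsg.Lib.Block
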